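import Cfsg.Agent.H28.ShultGross.Faithful
import Cfsg.Agent.H1.Fitting
import Cfsg.Agent.S3764

/-!
Shult–Gross: Fitting height of a solvable group with a fixed-point-free automorphism of odd prime
power order.
-/

set_option autoImplicit false
set_option linter.style.haveILetI false

namespace H28.SG

universe u

/-- Conjugation automorphisms as additive endomorphisms. -/
def toAddEnd (A : Type u) [CommGroup A] : MulAut A →* AddMonoid.End (Additive A) where
  toFun e := MonoidHom.toAdditive e.toMonoidHom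
  map_one' := AddMonoidHom.ext fun _ => rfl
  map_mul' _ _ := AddMonoidHom.ext fun _ => rfl

theorem toAddEnd_injective (A : Type u) [CommGroup A] : Function.Injective (toAddEnd A) :=
  fun _ _ h => MulEquiv.ext fun a =>
    congrArg (fun f : AddMonoid.End (Additive A) => (f (Additive.ofMul a)).toMul) h

/-- An automorphism fixing the Fitting subgroup pointwise is trivial. -/
theorem eq_of_fix_fitting {H : Type u} [Group H] [Finite H] (hH : Group.IsSolvable H) {p : ℕ}
    (hp : p.Prime) (hpH : ¬ p ∣ Nat.card H) {τ : MulAut H} (hτ : τ ^ p = 1)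
    (hfix : ∀ y ∈ Cfsg.fittingSubgroup H, τ y = y) (x : H) : τ x = x := by
  refine eq_of_fixed_disp hp hpH hτ (hfix _ ?_)
  haveI := hH
  refine H1.centralizer_fitting_le_of_isSolvable inferInstance ?_
  rw [Subgroup.mem_centralizer_iff]
  intro y hy
  have h1 := hfix _ ((H1.fittingSubgroup_normal H).conj_mem y hy x)
  rw [map_mul, map_mul, map_inv, hfix y hy] at h1
  calc y * (x⁻¹ * τ x) = x⁻¹ * (x * y * x⁻¹) * τ x := by group
    _ = x⁻¹ * τ x * y := by rw [← h1]; group

/-- The element of order `p` centralises a minimal invariant abelian normal subgroup modulo its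
centraliser. -/
theorem disp_mem_centralizer {G : Type u} [Group G] [Finite G] (hG : Group.IsSolvable G) {p n l : ℕ}
    (hp : p.Prime) (hp2 : p ≠ 2) [Fact l.Prime] (σ : MulAut G) (hσ : σ ^ p ^ (n + 1) = 1)
    (hfpf : FPF σ) (A : Subgroup G) [A.Normal] (hAσ : ∀ x ∈ A, σ x ∈ A) (hA1 : A ≠ ⊥)
    (hAc : IsMulCommutative A) (hAl : ∀ a ∈ A, a ^ l = 1)
    (hmin : ∀ B : Subgroup G, B ≤ A → B.Normal → (∀ x ∈ B, σ x ∈ B) → B ≠ ⊥ → B = A) (g : G) :
    g⁻¹ * (σ ^ p ^ n) g ∈ Subgroup.centralizer (A : Set G) := by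
  classical
  letI : CommGroup A := { (inferInstance : Group A) with mul_comm := hAc.is_comm.comm }
  set C := Subgroup.centralizer (A : Set G) with hC
  haveI hCn : C.Normal := Subgroup.normal_centralizer
  have hCσ : ∀ x ∈ C, σ x ∈ C := by
    intro x hx
    rw [Subgroup.mem_centralizer_iff] at hx ⊢
    intro a ha
    obtain ⟨b, hb⟩ := (fun y => (subAut σ A hAσ).surjective y) ⟨a, ha⟩
    have hb' : σ (b : G) = a := congrArg Subtype.val hb
    rw [← hb', ← map_mul, ← map_mul, hx b b.2]
  let φ : MulAut (G ⧸ C) := quotAut σ C hCσ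
  have hφfpf : FPF φ := fpf_quotAut hfpf C hCσ
  have hφP : φ ^ p ^ (n + 1) = 1 := MulEquiv.ext fun q => by
    obtain ⟨x, rfl⟩ := QuotientGroup.mk_surjective q
    rw [quotAut_pow_mk, hσ]; rfl
  have hker : C ≤ (MulAut.conjNormal : G →* MulAut A).ker := by
    intro x hx
    rw [MonoidHom.mem_ker]
    refine MulEquiv.ext fun a => Subtype.ext ?_
    rw [MulAut.conjNormal_apply, ← Subgroup.mem_centralizer_iff.mp hx a a.2,
      mul_inv_cancel_right]
    rfl
  let cH : G ⧸ C →* MulAut A := QuotientGroup.lift C MulAut.conjNormal hker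
  have hcH : ∀ (x : G) (a : A), ((cH (x : G ⧸ C)) a : G) = x * (a : G) * x⁻¹ := fun x a =>
    MulAut.conjNormal_apply x a
  have hcHinj : Function.Injective cH := by
    rw [← MonoidHom.ker_eq_bot_iff, eq_bot_iff]
    intro q hq
    obtain ⟨x, rfl⟩ := QuotientGroup.mk_surjective q
    rw [Subgroup.mem_bot, QuotientGroup.eq_one_iff, hC, Subgroup.mem_centralizer_iff]
    intro a ha
    have h := congrArg Subtype.val (MulEquiv.congr_fun (MonoidHom.mem_ker.mp hq) ⟨a, ha⟩)
    rw [hcH] at h
    exact (mul_inv_eq_iff_eq_mul.mp h).symm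
  let sA : MulAut A := subAut σ A hAσ
  have hinter : ∀ q, sA * cH q = cH (φ q) * sA := by
    intro q
    obtain ⟨x, rfl⟩ := QuotientGroup.mk_surjective q
    refine MulEquiv.ext fun a => Subtype.ext ?_
    show σ ((cH (x : G ⧸ C)) a : G) = ((cH (σ x : G ⧸ C)) (sA a) : G)
    rw [hcH, hcH, map_mul, map_mul, map_inv]
    rfl
  -- the representation
  obtain ⟨m, ρ0, hρ0, hρfix⟩ := Cfsg.Agent.S3764.exists_rep_aux (p := l) (A := Additive A)
    (fun a => by
      apply Additive.toMul.injective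
      rw [toMul_nsmul, toMul_zero]
      exact Subtype.ext (hAl _ (Additive.toMul a).2))
    (Units.coeHom (AddMonoid.End (Additive A)))
  let Pr : MulAut A →* Module.End (AlgebraicClosure (ZMod l)) (Fin m → AlgebraicClosure (ZMod l)) :=
    ρ0.comp (toAddEnd A).toHomUnits
  have hPr : Function.Injective Pr := by
    rw [← MonoidHom.ker_eq_bot_iff, eq_bot_iff]
    intro e he
    rw [Subgroup.mem_bot]
    exact toAddEnd_injective A ((hρ0 _ (MonoidHom.mem_ker.mp he)).trans (map_one (toAddEnd A)).symm)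
  have hs : Pr sA ^ p ^ (n + 1) = 1 := by
    rw [← map_pow, show sA ^ p ^ (n + 1) = 1 from
      MulEquiv.ext fun a => Subtype.ext (by rw [subAut_pow_coe, hσ]; rfl), map_one]
  have hsfix : ∀ v, Pr sA v = v → v = 0 := hρfix _ fun v hv => by
    apply Additive.toMul.injective
    exact fpf_subAut hfpf A hAσ (Additive.toMul v) hv
  haveI : Nontrivial A := A.nontrivial_iff_ne_bot.mpr hA1
  have hlA : l ∣ Nat.card A := by
    obtain ⟨a, ha⟩ := exists_ne (1 : A)
    have := orderOf_eq_prime (p := l) (Subtype.ext (hAl a a.2)) ha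
    exact this ▸ orderOf_dvd_natCard a
  have hlp : p ≠ l := fun h => not_dvd_card_of_fpf hp hσ hfpf
    (h ▸ hlA.trans (Subgroup.card_subgroup_dvd_card A))
  have hKne : ∀ q : ℕ, q.Prime → q ≠ l → ((q : ℕ) : AlgebraicClosure (ZMod l)) ≠ 0 := by
    intro q hq hne h
    rw [CharP.cast_eq_zero_iff (AlgebraicClosure (ZMod l)) l] at h
    exact hne ((Nat.prime_dvd_prime_iff_eq Fact.out hq).mp h).symm
  -- `τ` fixes every core of the quotient
  have hcore : ∀ r : Nat.Primes, Cfsg.pCore (r : ℕ) (G ⧸ C) ≤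
      MonoidHom.eqLocus (φ ^ p ^ n).toMonoidHom (MonoidHom.id _) := by
    intro r
    haveI : Fact (r : ℕ).Prime := ⟨r.2⟩
    set R := Cfsg.pCore (r : ℕ) (G ⧸ C) with hR
    haveI : R.Normal := H1.pCore_normal' _ _
    have hRσ : ∀ x ∈ R, φ x ∈ R := by
      intro x hx
      haveI : (R.map φ.toMonoidHom).Normal := Subgroup.Normal.map inferInstance _ φ.surjective
      exact H1.le_pCore (IsPGroup.map (H1.isPGroup_pCore (r : ℕ) (G ⧸ C)) φ.toMonoidHom)
        (⟨x, hx, rfl⟩ : φ x ∈ R.map φ.toMonoidHom)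
    by_cases hrl : (r : ℕ) = l
    · suffices R = ⊥ by rw [this]; exact bot_le
      let Q := R.comap (QuotientGroup.mk' C)
      haveI : Q.Normal := Subgroup.Normal.comap inferInstance _
      let B := A ⊓ Subgroup.centralizer (Q : Set G)
      haveI : (Subgroup.centralizer (Q : Set G)).Normal := Subgroup.normal_centralizer
      have hBn : B.Normal := inferInstance
      have hBσ : ∀ x ∈ B, σ x ∈ B := by
        rintro x ⟨hx1, hx2⟩
        refine ⟨hAσ x hx1, Subgroup.mem_centralizer_iff.mpr fun q hq => ?_⟩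
        obtain ⟨q', rfl⟩ := σ.surjective q
        have hq' : q' ∈ Q := by
          have h2 : φ ((q' : G) : G ⧸ C) ∈ R := hq
          obtain ⟨w, hw⟩ := (fun y => (subAut φ R hRσ).surjective y) ⟨_, h2⟩
          have hw' : φ (w : G ⧸ C) = φ (q' : G ⧸ C) := congrArg Subtype.val hw
          show (q' : G ⧸ C) ∈ R
          exact φ.injective hw' ▸ w.2
        rw [← map_mul, ← map_mul, Subgroup.mem_centralizer_iff.mp hx2 q' hq']
      have hB : B ≠ ⊥ := by
        letI : MulAction R A := MulAction.compHom A (cH.comp R.subtype)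
        have hRl : IsPGroup l R := hrl ▸ H1.isPGroup_pCore _ _
        have h1 : (1 : A) ∈ MulAction.fixedPoints R A := fun q => map_one (cH q)
        obtain ⟨a, ha, hne⟩ :=
          hRl.exists_fixed_point_of_prime_dvd_card_of_fixed_point A hlA h1
        refine (Subgroup.ne_bot_iff_exists_ne_one).mpr ⟨⟨a, a.2, ?_⟩, fun h => hne ?_⟩
        · show (a : G) ∈ Subgroup.centralizer (Q : Set G)
          rw [Subgroup.mem_centralizer_iff]
          intro q hq
          have h2 : ((cH (q : G ⧸ C)) a : G) = a := congrArg Subtype.val (ha ⟨(q : G ⧸ C), hq⟩)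
          rw [hcH] at h2
          exact mul_inv_eq_iff_eq_mul.mp h2
        · exact Subtype.ext (congrArg Subtype.val h).symm
      have hBA := hmin B inf_le_left hBn hBσ hB
      rw [eq_bot_iff]
      intro q hq
      obtain ⟨x, rfl⟩ := QuotientGroup.mk_surjective q
      rw [Subgroup.mem_bot, QuotientGroup.eq_one_iff, hC, Subgroup.mem_centralizer_iff]
      intro a ha
      exact (Subgroup.mem_centralizer_iff.mp (hBA.ge ha).2 x hq).symm
    · intro x hx
      have h := core hp hp2 r.2 (hKne p hp hlp) (hKne r r.2 hrl) (Nat.card R) R le_rfl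
        (H1.isPGroup_pCore _ _) (subAut φ R hRσ)
        (MulEquiv.ext fun q => Subtype.ext (by rw [subAut_pow_coe, hφP]; rfl))
        (fpf_subAut hφfpf R hRσ) ((Pr.comp cH).comp R.subtype) (Pr sA) hs hsfix
        (fun a => by
          show Pr sA * Pr (cH a) = Pr (cH (φ a)) * Pr sA
          rw [← map_mul, ← map_mul, hinter]) ⟨x, hx⟩
      show (φ ^ p ^ n) x = x
      have h' := hcHinj (hPr h)
      change ((((subAut φ R hRσ) ^ p ^ n) ⟨x, hx⟩ : R) : G ⧸ C) = x at h'
      rwa [subAut_pow_coe] at h'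
  haveI := hG
  have htriv := eq_of_fix_fitting (H := G ⧸ C) inferInstance hp
    (not_dvd_card_of_fpf hp hφP hφfpf) (τ := φ ^ p ^ n) (by rw [← pow_mul, ← pow_succ, hφP])
    (fun y hy => by
      rw [H1.fittingSubgroup_eq_iSup_pCore] at hy
      exact (iSup_le hcore) hy) (g : G ⧸ C)
  rw [quotAut_pow_mk] at htriv
  exact QuotientGroup.eq.mp htriv.symm

/-- The element of order `p` acts trivially modulo the Fitting subgroup. -/
theorem disp_mem_fitting {p n : ℕ} (hp : p.Prime) (hp2 : p ≠ 2) (N : ℕ) :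
    ∀ (G : Type u) [Group G] [Finite G], Nat.card G ≤ N → Group.IsSolvable G →
      ∀ σ : MulAut G, σ ^ p ^ (n + 1) = 1 → FPF σ →
      ∀ g : G, g⁻¹ * (σ ^ p ^ n) g ∈ Cfsg.fittingSubgroup G := by
  induction N using Nat.strong_induction_on with
  | _ N ih =>
  intro G _ _ hN hG σ hσ hfpf g
  classical
  rcases subsingleton_or_nontrivial G with hs | hs
  · rw [Subsingleton.elim (g⁻¹ * (σ ^ p ^ n) g) 1]; exact one_mem _
  obtain ⟨A, ⟨hA1, hAn, hAσ⟩, hAmin⟩ := wellFounded_lt.has_min
    {B : Subgroup G | B ≠ ⊥ ∧ B.Normal ∧ ∀ x ∈ B, σ x ∈ B}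
    ⟨⊤, top_ne_bot, inferInstance, fun _ _ => trivial⟩
  have hmin : ∀ B : Subgroup G, B ≤ A → B.Normal → (∀ x ∈ B, σ x ∈ B) → B ≠ ⊥ → B = A :=
    fun B hB hn hσB h1 => (eq_of_le_of_not_lt hB fun hlt => hAmin B ⟨h1, hn, hσB⟩ hlt)
  haveI := hAn
  haveI := hG
  haveI : Nontrivial A := A.nontrivial_iff_ne_bot.mpr hA1
  -- abelian
  have hder : (commutator A).map A.subtype = ⊥ := by
    by_contra h
    have h1 := hmin _ (Subgroup.map_subtype_le _)
      (ConjAct.normal_of_characteristic_of_normal) ?_ h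
    · have h2 : commutator A = ⊤ := Subgroup.map_injective A.subtype_injective
        (h1.trans (by rw [← MonoidHom.range_eq_map, A.range_subtype]))
      exact (Group.IsSolvable.commutator_lt_top_of_nontrivial A).ne h2
    · rintro _ ⟨x, hx, rfl⟩
      exact ⟨subAut σ A hAσ x, char_apply_mem _ _ x hx, rfl⟩
  have hAc : IsMulCommutative A := ⟨⟨fun a b => commutatorElement_eq_one_iff_mul_comm.mp
    (Subgroup.mem_bot.mp (Subgroup.map_eq_bot_iff_of_injective _ A.subtype_injective |>.mp hder ▸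
      Subgroup.commutator_mem_commutator (Subgroup.mem_top a) (Subgroup.mem_top b)))⟩⟩
  obtain ⟨l, hl, hlA⟩ := Nat.exists_prime_and_dvd
    (Finite.one_lt_card (α := A)).ne'
  haveI := Fact.mk hl
  -- exponent `l`
  have hcomm : ∀ a ∈ A, ∀ b ∈ A, Commute a b := fun a ha b hb =>
    congrArg Subtype.val (hAc.is_comm.comm ⟨a, ha⟩ ⟨b, hb⟩)
  have hAl : ∀ a ∈ A, a ^ l = 1 := by
    let B : Subgroup G :=
      { carrier := {a | a ∈ A ∧ a ^ l = 1}
        one_mem' := ⟨one_mem _, one_pow l⟩
        mul_mem' := fun {a b} ha hb =>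
          ⟨mul_mem ha.1 hb.1, by rw [(hcomm a ha.1 b hb.1).mul_pow, ha.2, hb.2, one_mul]⟩
        inv_mem' := fun {a} ha => ⟨inv_mem ha.1, by rw [inv_pow, ha.2, inv_one]⟩ }
    have hBn : B.Normal := ⟨fun a ha x => ⟨hAn.conj_mem a ha.1 x, by rw [conj_pow, ha.2]; group⟩⟩
    have hB1 : B ≠ ⊥ := by
      obtain ⟨a, ha⟩ := exists_prime_orderOf_dvd_card' (G := A) l hlA
      refine Subgroup.ne_bot_iff_exists_ne_one.mpr ⟨⟨a, a.2, ?_⟩, fun h => ?_⟩
      · have := pow_orderOf_eq_one a
        rw [ha] at this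
        exact congrArg Subtype.val this
      · have h2 : (a : G) = 1 := congrArg (fun b : B => (b : G)) h
        have : a = 1 := Subtype.ext h2
        rw [this, orderOf_one] at ha
        exact hl.one_lt.ne ha
    have hBA := hmin B (fun a ha => ha.1) hBn
      (fun a ha => ⟨hAσ a ha.1, by rw [← map_pow, ha.2, map_one]⟩) hB1
    exact fun a ha => (hBA.ge ha).2
  have hyC := disp_mem_centralizer hG hp hp2 σ hσ hfpf A hAσ hA1 hAc hAl hmin g
  -- the quotient
  have hlt : Nat.card (G ⧸ A) < N := by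
    refine lt_of_lt_of_le ?_ hN
    rw [Subgroup.card_eq_card_quotient_mul_card_subgroup A]
    exact lt_mul_of_one_lt_right Nat.card_pos (Finite.one_lt_card)
  have hy := ih _ hlt (G ⧸ A) le_rfl inferInstance (quotAut σ A hAσ)
    (MulEquiv.ext fun q => by
      obtain ⟨x, rfl⟩ := QuotientGroup.mk_surjective q
      rw [quotAut_pow_mk, hσ]; rfl)
    (fpf_quotAut hfpf A hAσ) (g : G ⧸ A)
  rw [quotAut_pow_mk] at hy
  set FA := (Cfsg.fittingSubgroup (G ⧸ A)).comap (QuotientGroup.mk' A)
  haveI : (Cfsg.fittingSubgroup (G ⧸ A)).Normal := H1.fittingSubgroup_normal _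
  haveI : FA.Normal := Subgroup.Normal.comap inferInstance _
  haveI : (Subgroup.centralizer (A : Set G)).Normal := Subgroup.normal_centralizer
  let M := FA ⊓ Subgroup.centralizer (A : Set G)
  have hMnil : Group.IsNilpotent M := by
    let f : M →* Cfsg.fittingSubgroup (G ⧸ A) :=
      ((QuotientGroup.mk' A).comp M.subtype).codRestrict _ fun x => x.2.1
    haveI := H1.isNilpotent_fittingSubgroup (G ⧸ A)
    refine Subgroup.isNilpotent_of_ker_le_center f ?_
    intro x hx
    have hxA : (x : G) ∈ A :=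
      (QuotientGroup.eq_one_iff (x : G)).mp (congrArg Subtype.val (MonoidHom.mem_ker.mp hx))
    rw [Subgroup.mem_center_iff]
    intro y
    exact Subtype.ext (Subgroup.mem_centralizer_iff.mp y.2.2 (x : G) hxA).symm
  haveI : M.Normal := inferInstance
  exact H1.le_fittingSubgroup hMnil ⟨hy, hyC⟩

/-- The Fitting height is at most `n`. -/
theorem exists_chain {p : ℕ} (hp : p.Prime) (hp2 : p ≠ 2) (n : ℕ) :
    ∀ (G : Type u) [Group G] [Finite G], Group.IsSolvable G → ∀ σ : MulAut G,
      σ ^ p ^ n = 1 → FPF σ →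
      ∃ F : Fin (n + 1) → Subgroup G, F 0 = ⊥ ∧ F (Fin.last n) = ⊤ ∧ Monotone F ∧
        (∀ i, (F i).Normal) ∧
        ∀ i : Fin n, ∃ k : ℕ, (F i.succ).lowerCentralSeries k ≤ F i.castSucc := by
  induction n with
  | zero =>
    intro G _ _ _ σ hσ hfpf
    have hbot : (⊥ : Subgroup G) = ⊤ := by
      rw [eq_comm, Subgroup.eq_bot_iff_forall]
      intro g _
      rw [pow_zero, pow_one] at hσ
      exact hfpf g (by rw [hσ]; rfl)
    exact ⟨fun _ => ⊥, rfl, hbot, monotone_const, fun _ => inferInstance, fun i => i.elim0⟩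
  | succ n ih =>
    intro G _ _ hG σ hσ hfpf
    haveI := hG
    set Φ := Cfsg.fittingSubgroup G
    haveI : Φ.Normal := H1.fittingSubgroup_normal G
    haveI : Φ.Characteristic := H1.fittingSubgroup_characteristic G
    have hΦσ : ∀ x ∈ Φ, σ x ∈ Φ := char_apply_mem σ Φ
    obtain ⟨F, hF0, hFl, hFm, hFn, hFnil⟩ := ih (G ⧸ Φ) inferInstance (quotAut σ Φ hΦσ)
      (MulEquiv.ext fun q => by
        obtain ⟨x, rfl⟩ := QuotientGroup.mk_surjective q
        rw [quotAut_pow_mk]
        exact (QuotientGroup.eq.mpr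
          (disp_mem_fitting hp hp2 (Nat.card G) G le_rfl hG σ hσ hfpf x)).symm)
      (fpf_quotAut hfpf Φ hΦσ)
    refine ⟨Fin.cases ⊥ fun j => (F j).comap (QuotientGroup.mk' Φ), rfl, ?_, ?_, ?_, ?_⟩
    · dsimp only
      rw [← Fin.succ_last, Fin.cases_succ, hFl, Subgroup.comap_top]
    · refine Fin.monotone_iff_le_succ.mpr fun i => ?_
      induction i using Fin.cases with
      | zero => exact bot_le
      | succ j =>
        rw [← Fin.succ_castSucc, Fin.cases_succ, Fin.cases_succ]
        exact Subgroup.comap_mono (hFm (Fin.castSucc_le_succ j))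
    · intro i
      induction i using Fin.cases with
      | zero => exact (inferInstance : (⊥ : Subgroup G).Normal)
      | succ j => exact (hFn j).comap _
    · intro i
      induction i using Fin.cases with
      | zero =>
        obtain ⟨k, hk⟩ := (Subgroup.isNilpotent_iff_lowerCentralSeries Φ).mp
          (H1.isNilpotent_fittingSubgroup G)
        refine ⟨k, le_of_eq ?_⟩
        dsimp only
        rw [Fin.cases_succ, hF0, MonoidHom.comap_bot, QuotientGroup.ker_mk', hk]
        rfl
      | succ j =>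
        obtain ⟨k, hk⟩ := hFnil j
        refine ⟨k, ?_⟩
        dsimp only
        rw [← Fin.succ_castSucc, Fin.cases_succ, Fin.cases_succ, ← Subgroup.map_le_iff_le_comap,
          Subgroup.map_lowerCentralSeries,
          Subgroup.map_comap_eq_self_of_surjective (QuotientGroup.mk'_surjective Φ)]
        exact hk

end H28.SG
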