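import Cfsg.Agent.H28.ShultGross.Regular

/-!
Shult–Gross: the element of order `p` of a fixed-point-free cyclic group of odd prime power order
acts trivially on every operator `r`-group.
-/

set_option autoImplicit false
set_option linter.style.haveILetI false

namespace H28.SG

open Module
open scoped commutatorElement

universe u v w

theorem not_dvd_card_of_fpf {G : Type u} [Group G] [Finite G] {p k : ℕ} (hp : p.Prime)
    {σ : MulAut G} (hσ : σ ^ p ^ k = 1) (h : FPF σ) : ¬ p ∣ Nat.card G := by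
  classical
  haveI := Fact.mk hp
  haveI := Fintype.ofFinite G
  obtain ⟨j, -, hj⟩ := (Nat.dvd_prime_pow hp).mp (orderOf_dvd_of_pow_eq_one hσ)
  have hP : IsPGroup p (Subgroup.zpowers σ) :=
    IsPGroup.of_card (n := j) (by rw [Nat.card_zpowers, hj])
  have hfix : MulAction.fixedPoints (Subgroup.zpowers σ) G = {1} := by
    ext g
    simp only [MulAction.mem_fixedPoints, Set.mem_singleton_iff]
    refine ⟨fun hg => h g (hg ⟨σ, Subgroup.mem_zpowers σ⟩), fun hg s => ?_⟩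
    subst hg
    exact map_one (s : MulAut G)
  have h1 := hP.card_modEq_card_fixedPoints G
  rw [hfix, Nat.card_coe_set_eq, Set.ncard_singleton] at h1
  intro hd
  have := h1.symm.trans (Nat.modEq_zero_iff_dvd.mpr hd)
  exact hp.not_dvd_one ((Nat.modEq_zero_iff_dvd).mp this)

theorem pow_mem_of_invariant {G : Type u} [Group G] {σ : MulAut G} {N : Subgroup G}
    (hN : ∀ x ∈ N, σ x ∈ N) (j : ℕ) : ∀ x ∈ N, (σ ^ j) x ∈ N := by
  induction j with
  | zero => exact fun x hx => hx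
  | succ j ih =>
    intro x hx
    rw [pow_succ', MulAut.mul_apply]
    exact hN _ (ih x hx)

/-- An element whose displacement is fixed is fixed. -/
theorem eq_of_fixed_disp {G : Type u} [Group G] [Finite G] {p : ℕ} (hp : p.Prime)
    (hpG : ¬ p ∣ Nat.card G) {τ : MulAut G} (hτ : τ ^ p = 1) {x : G}
    (h : τ (x⁻¹ * τ x) = x⁻¹ * τ x) : τ x = x := by
  set c := x⁻¹ * τ x with hc
  have hj : ∀ j : ℕ, (τ ^ j) x = x * c ^ j := by
    intro j
    induction j with
    | zero => simp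
    | succ j ih =>
      rw [pow_succ', MulAut.mul_apply, ih, map_mul, map_pow, h, pow_succ', ← mul_assoc, hc,
        mul_inv_cancel_left]
  have h1 := hj p
  rw [hτ, MulAut.one_apply] at h1
  have h2 : c ^ p = 1 := mul_left_cancel (h1.symm.trans (mul_one x).symm)
  have h3 : c = 1 := orderOf_eq_one_iff.mp
    (Nat.eq_one_of_dvd_coprimes (hp.coprime_iff_not_dvd.mpr hpG)
      (orderOf_dvd_of_pow_eq_one h2) (orderOf_dvd_natCard c))
  rw [hc, inv_mul_eq_one] at h3
  exact h3.symm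

/-- Freeness modulo an invariant normal subgroup gives surjectivity of the displacement. -/
theorem exists_mul_of_free {G : Type u} [Group G] [Finite G] (τ : MulAut G) (N : Subgroup G)
    [N.Normal] (hN : ∀ x ∈ N, τ x ∈ N) (h : ∀ x, x⁻¹ * τ x ∈ N → x ∈ N) (u : G) :
    ∃ x, (x⁻¹ * τ x)⁻¹ * u ∈ N := by
  have hf : FPF (quotAut τ N hN) := by
    intro y hy
    obtain ⟨g, rfl⟩ := QuotientGroup.mk_surjective y
    rw [quotAut_mk] at hy
    exact (QuotientGroup.eq_one_iff g).mpr (h g (QuotientGroup.eq.mp hy.symm))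
  obtain ⟨y, hy⟩ := (fpf_bijective hf).2 (u : G ⧸ N)
  obtain ⟨x, rfl⟩ := QuotientGroup.mk_surjective y
  exact ⟨x, QuotientGroup.eq.mp hy⟩

/-- If the element of order `p` is free modulo `N` then the whole cyclic group is. -/
theorem free_of_tau {G : Type u} [Group G] [Finite G] {p k : ℕ} (hp : p.Prime) (θ : MulAut G)
    (hθ : θ ^ p ^ (k + 1) = 1) (N : Subgroup G) [N.Normal] (hN : ∀ x ∈ N, θ x ∈ N)
    (h : ∀ x, x⁻¹ * (θ ^ p ^ k) x ∈ N → x ∈ N) (j : ℕ) (hj0 : 0 < j) (hj : j < p ^ (k + 1))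
    (x : G) (hx : x⁻¹ * (θ ^ j) x ∈ N) : x ∈ N := by
  have hper : ∀ i, (θ ^ i) x = x ∨ x⁻¹ * (θ ^ i) x ∈ N →
      Function.IsPeriodicPt (⇑(quotAut θ N hN)) i (x : G ⧸ N) := by
    intro i hi
    show (⇑(quotAut θ N hN))^[i] (x : G ⧸ N) = x
    rw [aut_iterate, quotAut_pow_mk]
    rcases hi with hi | hi
    · rw [hi]
    · exact (QuotientGroup.eq.mpr hi).symm
  have hP := hper (p ^ (k + 1)) (Or.inl (by rw [hθ]; rfl))
  obtain ⟨a, ha, haL⟩ := (Nat.dvd_prime_pow hp).mp hP.minimalPeriod_dvd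
  have hle : Function.minimalPeriod (⇑(quotAut θ N hN)) (x : G ⧸ N) ≤ j :=
    (hper j (Or.inr hx)).minimalPeriod_le hj0
  have hak : a ≤ k := by
    by_contra hak
    have : p ^ (k + 1) ≤ j := le_trans (le_of_eq (by rw [haL]; congr 1; omega)) hle
    omega
  have hk : (⇑(quotAut θ N hN))^[p ^ k] (x : G ⧸ N) = x :=
    (Function.isPeriodicPt_minimalPeriod _ _).trans_dvd (haL ▸ pow_dvd_pow p hak)
  rw [aut_iterate, quotAut_pow_mk] at hk
  exact h x (QuotientGroup.eq.mp hk.symm)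

section Rep

variable {K : Type v} [Field K] {W : Type w} [AddCommGroup W] [Module K W]

/-- The representation on an invariant subspace. -/
def subRep {M : Type u} [Monoid M] (ρ : M →* Module.End K W) (S : Submodule K W)
    (h : ∀ a, ∀ v ∈ S, ρ a v ∈ S) : M →* Module.End K S where
  toFun a := (ρ a).restrict (h a)
  map_one' := by
    refine LinearMap.ext fun v => Subtype.ext ?_
    show ρ 1 (v : W) = _
    rw [map_one]; rfl
  map_mul' a b := by
    refine LinearMap.ext fun v => Subtype.ext ?_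
    show ρ (a * b) (v : W) = _
    rw [map_mul]; rfl

@[simp] theorem subRep_coe {M : Type u} [Monoid M] (ρ : M →* Module.End K W) (S : Submodule K W)
    (h : ∀ a, ∀ v ∈ S, ρ a v ∈ S) (a : M) (v : S) : (subRep ρ S h a v : W) = ρ a v := rfl

variable {R : Type u} [Group R]

/-- The elements acting centrally on the module. -/
def radical (ρ : R →* Module.End K W) : Subgroup R :=
  (Subgroup.centralizer (ρ.toHomUnits.range : Set (Module.End K W)ˣ)).comap ρ.toHomUnits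

theorem mem_radical {ρ : R →* Module.End K W} {x : R} :
    x ∈ radical ρ ↔ ∀ y, ρ y * ρ x = ρ x * ρ y := by
  simp only [radical, Subgroup.mem_comap, Subgroup.mem_centralizer_iff, SetLike.mem_coe,
    MonoidHom.mem_range, forall_exists_index, forall_apply_eq_imp_iff]
  exact forall_congr' fun y => Units.ext_iff

theorem map_commutator_eq_one {ρ : R →* Module.End K W} {x y : R}
    (h : ρ x * ρ y = ρ y * ρ x) : ρ ⁅x, y⁆ = 1 := by
  rw [commutatorElement_def, show x * y * x⁻¹ * y⁻¹ = (x * y) * (y * x)⁻¹ by group, map_mul,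
    map_mul, h, ← map_mul, ← map_mul, mul_inv_cancel, map_one]

theorem commute_of_map_commutator {ρ : R →* Module.End K W} {x y : R}
    (h : ρ ⁅x, y⁆ = 1) : ρ x * ρ y = ρ y * ρ x := by
  rw [← map_mul, ← map_mul, show x * y = ⁅x, y⁆ * (y * x) by rw [commutatorElement_def]; group,
    map_mul, h, one_mul]

theorem pow_intertwine {ρ : R →* Module.End K W} {σ : MulAut R} {s : Module.End K W}
    (hs : ∀ a, s * ρ a = ρ (σ a) * s) (j : ℕ) (a : R) : s ^ j * ρ a = ρ ((σ ^ j) a) * s ^ j := by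
  induction j generalizing a with
  | zero => simp
  | succ j ih =>
    rw [pow_succ, mul_assoc, hs, ← mul_assoc, ih, mul_assoc, pow_succ, MulAut.mul_apply]

/-- A nontrivial element gives a common eigenvector with a nontrivial eigenvalue. -/
theorem exists_nontrivial_eig [IsAlgClosed K] [FiniteDimensional K W] {A : Type u} [Group A]
    (F : A →* Module.End K W) (hcomm : ∀ a b, Commute (F a) (F b)) (a : A)
    (ha : F a ≠ 1) (k : ℕ) (hk : a ^ k = 1) (hkK : (k : K) ≠ 0) :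
    ∃ μ : A → K, ∃ v, v ≠ 0 ∧ Eig (⇑F) μ v ∧ μ a ≠ 1 := by
  classical
  haveI : NeZero (k : K) := ⟨hkK⟩
  obtain ⟨ζ, hζ⟩ := HasEnoughRootsOfUnity.exists_primitiveRoot K k
  have hk0 : 0 < k := Nat.pos_of_ne_zero fun h => hkK (by rw [h, Nat.cast_zero])
  have hFk : F a ^ k = 1 := by rw [← map_pow, hk, map_one]
  obtain ⟨c, hc1, w, hw0, hw⟩ : ∃ c : K, c ≠ 1 ∧ ∃ w : W, w ≠ 0 ∧ F a w = c • w := by
    by_contra hcon
    push Not at hcon
    apply ha
    have h2 : ∀ i : Fin k, ∀ v, F a (Cfsg.Agent.H29.eigProj (F a) k ζ i v) =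
        Cfsg.Agent.H29.eigProj (F a) k ζ i v := by
      intro i v
      have h1 : F a (Cfsg.Agent.H29.eigProj (F a) k ζ i v) =
          ζ ^ (i : ℕ) • Cfsg.Agent.H29.eigProj (F a) k ζ i v :=
        LinearMap.congr_fun (Cfsg.Agent.H29.mul_eigProj (F a) hζ hkK hFk i) v
      by_cases h0 : ζ ^ (i : ℕ) = 1
      · rw [h1, h0, one_smul]
      · by_cases hv : Cfsg.Agent.H29.eigProj (F a) k ζ i v = 0
        · rw [hv, map_zero]
        · exact absurd h1 (hcon _ h0 _ hv)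
    refine LinearMap.ext fun v => ?_
    have h3 : ∑ i : Fin k, Cfsg.Agent.H29.eigProj (F a) k ζ i v = v := by
      rw [← LinearMap.sum_apply, Cfsg.Agent.H29.sum_eigProj (F a) hζ hkK]
      rfl
    rw [Module.End.one_apply, ← h3, map_sum]
    exact Finset.sum_congr rfl fun i _ => h2 i v
  obtain ⟨μ, v, hv, hv0, hμ⟩ := exists_eig_mem (⇑F) hcomm (Module.End.eigenspace (F a) c)
    ((Submodule.ne_bot_iff _).mpr ⟨w, Module.End.mem_eigenspace_iff.mpr hw, hw0⟩)
    (fun b x hx => by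
      rw [Module.End.mem_eigenspace_iff] at hx ⊢
      rw [← Module.End.mul_apply, (hcomm a b).eq, Module.End.mul_apply, hx, map_smul])
  refine ⟨μ, v, hv0, hμ, fun h => hc1 ?_⟩
  apply smul_left_injective K hv0
  show c • v = (1 : K) • v
  rw [← Module.End.mem_eigenspace_iff.mp hv, hμ a, h]

variable [Finite R] [IsAlgClosed K] [FiniteDimensional K W]

/-- The Hall–Higman step for one central character. -/
theorem lambda_bound {p k r : ℕ} (hp : p.Prime) (hp2 : p ≠ 2) (hr : r.Prime) (hR : IsPGroup r R)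
    (hpK : (p : K) ≠ 0) (Z : Subgroup R) (hZc : Z ≤ Subgroup.center R)
    (hcom : ∀ x y : R, ⁅x, y⁆ ∈ Z) (θ : MulAut R) (hθ : θ ^ p ^ (k + 1) = 1)
    (hθZ : ∀ x ∈ Z, θ x ∈ Z) (hfree : ∀ x, x⁻¹ * (θ ^ p ^ k) x ∈ Z → x ∈ Z)
    [Nontrivial W] (ρ : R →* Module.End K W)
    (hlam : ∀ z ∈ Z, ∃ c : K, ρ z = c • (1 : Module.End K W))
    (hlamθ : ∀ z ∈ Z, ρ (θ z) = ρ z) (t : Module.End K W) (ht : t ^ p ^ (k + 1) = 1)
    (hfix : ∀ v, t v = v → v = 0) (htρ : ∀ a, t * ρ a = ρ (θ a) * t) (hne : radical ρ ≠ ⊤) :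
    r = 2 ∧ ∃ e, 1 ≤ e ∧ p ^ (k + 1) = 2 ^ e + 1 ∧ (radical ρ).index = 2 ^ (2 * e) := by
  classical
  haveI := Fact.mk hr
  set M := radical ρ with hM
  have hZM : Z ≤ M := by
    intro z hz
    rw [hM, mem_radical]
    intro y
    obtain ⟨c, hc⟩ := hlam z hz
    rw [hc, smul_mul_assoc, one_mul, mul_smul_comm, mul_one]
  haveI : M.Normal := ⟨fun x hx g => by
    have e : g * x * g⁻¹ = ⁅g, x⁆ * x := by rw [commutatorElement_def]; group
    rw [e]
    exact mul_mem (hZM (hcom g x)) hx⟩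
  have htu : IsUnit t :=
    (isUnit_pow_iff (pow_ne_zero (k + 1) hp.ne_zero)).mp (ht ▸ isUnit_one)
  have hθM : ∀ x ∈ M, θ x ∈ M := by
    intro x hx
    rw [hM, mem_radical] at hx ⊢
    intro y
    obtain ⟨y, rfl⟩ := θ.surjective y
    apply htu.mul_right_cancel
    calc ρ (θ y) * ρ (θ x) * t = t * (ρ y * ρ x) := by
          rw [← map_mul, ← map_mul, ← map_mul, htρ]
      _ = t * (ρ x * ρ y) := by rw [hx y]
      _ = ρ (θ x) * ρ (θ y) * t := by
          rw [← map_mul, ← map_mul, ← map_mul, htρ]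
  set τ := θ ^ p ^ k with hτ
  have hτM : ∀ x ∈ M, τ x ∈ M := pow_mem_of_invariant hθM _
  have hτZ : ∀ x ∈ Z, τ x ∈ Z := pow_mem_of_invariant hθZ _
  haveI hZn : Z.Normal := ⟨fun x hx g => by
    rw [Subgroup.mem_center_iff.mp (hZc hx) g, mul_inv_cancel_right]; exact hx⟩
  have hdec : ∀ u ∈ M, ∃ x ∈ M, (x⁻¹ * τ x)⁻¹ * u ∈ Z := by
    intro u hu
    obtain ⟨x, hx⟩ := exists_mul_of_free (subAut τ M hτM) (Z.subgroupOf M)
      (fun x hx => hτZ _ hx) (fun x hx => hfree _ hx) ⟨u, hu⟩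
    exact ⟨x, x.2, hx⟩
  -- the eigenvalue system of the radical
  let F : M →* Module.End K W := ρ.comp M.subtype
  obtain ⟨μ, v, -, hv0, hμ⟩ := exists_eig_mem (⇑F)
    (fun a b => mem_radical.mp b.2 a) ⊤ top_ne_bot (fun _ _ _ => trivial)
  let θM : MulAut M := subAut θ M hθM
  have hθMi : ∀ j (a : M), ((⇑θM.toEquiv)^[j] a : R) = (θ ^ j) (a : R) := fun j a => by
    rw [show ⇑θM.toEquiv = ⇑θM from rfl, aut_iterate, subAut_pow_coe]
  have hμτ : ∀ a : M, μ ⟨τ a, hτM a a.2⟩ = μ a := by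
    intro a
    have h1 := tau_fixes hp (F := ⇑F) (θ := θM.toEquiv) (k := k) (fun b => htρ b) hfix
      (fun b => Subtype.ext (by rw [hθMi, hθ]; rfl)) ht hμ hv0 a
    rwa [show (⇑θM.toEquiv)^[p ^ k] a = ⟨τ a, hτM a a.2⟩ from Subtype.ext (hθMi _ a)] at h1
  have hμZ : ∀ z : M, (z : R) ∈ Z → μ (θM z) = μ z := by
    intro z hz
    apply smul_left_injective K hv0
    show μ (θM z) • v = μ z • v
    rw [← hμ, ← hμ]
    exact LinearMap.congr_fun (hlamθ _ hz) v
  have hμdisp : ∀ x z : M, μ (x⁻¹ * ⟨τ x, hτM x x.2⟩ * z) = μ z := by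
    intro x z
    rw [eig_mul hμ hv0]
    have h1 := eig_mul hμ hv0 x (x⁻¹ * ⟨τ x, hτM x x.2⟩)
    rw [mul_inv_cancel_left, hμτ] at h1
    rw [mul_eq_left₀ (eig_ne_zero hμ hv0 x) |>.mp h1.symm, one_mul]
  have hμθ : ∀ a : M, μ (θM a) = μ a := by
    intro a
    obtain ⟨x, hx, hz⟩ := hdec a a.2
    set z : M := ⟨_, hZM hz⟩ with hzdef
    have ha : a = (⟨x, hx⟩ : M)⁻¹ * ⟨τ x, hτM x hx⟩ * z := Subtype.ext (by
      simp only [hzdef, Subgroup.coe_mul, Subgroup.coe_inv, mul_inv_cancel_left])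
    have hcommτ : θM ⟨τ x, hτM x hx⟩ = ⟨τ (θ x), hτM _ (hθM x hx)⟩ := Subtype.ext (by
      show θ (τ x) = τ (θ x)
      rw [hτ, ← MulAut.mul_apply, ← pow_succ', pow_succ, MulAut.mul_apply])
    rw [ha, map_mul, map_mul, map_inv, hcommτ, hμdisp,
      show θM ⟨x, hx⟩ = ⟨θ x, hθM x hx⟩ from rfl, hμdisp ⟨θ x, hθM x hx⟩]
    exact hμZ z hz
  -- the eigenspace
  let Wb := eigSpace (⇑F) μ
  haveI : Nontrivial Wb :=
    Submodule.nontrivial_iff_ne_bot.mpr ((Submodule.ne_bot_iff _).mpr ⟨v, mem_eigSpace.mpr hμ, hv0⟩)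
  have hWρ : ∀ y, ∀ w ∈ Wb, ρ y w ∈ Wb := by
    intro y w hw
    rw [mem_eigSpace] at hw ⊢
    intro a
    show ρ a (ρ y w) = μ a • ρ y w
    rw [← Module.End.mul_apply, ← mem_radical.mp a.2 y, Module.End.mul_apply,
      show ρ a w = μ a • w from hw a, map_smul]
  have htw : tw θM.toEquiv μ = μ := by
    funext a
    show μ (θM.toEquiv.symm a) = μ a
    conv_rhs => rw [← θM.toEquiv.apply_symm_apply a]
    exact (hμθ _).symm
  have hWt : ∀ w ∈ Wb, t w ∈ Wb := by
    intro w hw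
    rw [mem_eigSpace] at hw ⊢
    have := hw.twist (θ := θM.toEquiv) (s := t) (fun b => htρ b)
    rwa [htw] at this
  let ρ' := subRep ρ Wb hWρ
  let t' : Module.End K Wb := t.restrict hWt
  have ht'pow : ∀ j : ℕ, ∀ w : Wb, ((t' ^ j) w : W) = (t ^ j) (w : W) := by
    intro j
    induction j with
    | zero => intro w; rfl
    | succ j ih =>
      intro w
      rw [pow_succ', pow_succ', Module.End.mul_apply, Module.End.mul_apply]
      show t ((t' ^ j) w : W) = _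
      rw [ih]
  have hMscal : ∀ c ∈ M, ∃ a : K, ρ' c = a • (1 : Module.End K Wb) := fun c hc =>
    ⟨μ ⟨c, hc⟩, LinearMap.ext fun w => Subtype.ext (mem_eigSpace.mp w.2 ⟨c, hc⟩)⟩
  have hMθ : ∀ c ∈ M, ρ' (θ c) = ρ' c := by
    intro c hc
    refine LinearMap.ext fun w => Subtype.ext ?_
    show F (θM ⟨c, hc⟩) (w : W) = F ⟨c, hc⟩ (w : W)
    rw [mem_eigSpace.mp w.2, mem_eigSpace.mp w.2, hμθ]
  have hnd : ∀ w : R, (∀ y : R, ρ' ⁅y, w⁆ = 1) → w ∈ M := by
    intro w hw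
    rw [hM, mem_radical]
    intro y
    apply commute_of_map_commutator
    obtain ⟨c, hc⟩ := hlam _ (hcom y w)
    obtain ⟨x, hx⟩ := exists_ne (0 : Wb)
    have h1 : ρ ⁅y, w⁆ (x : W) = (x : W) := congrArg Subtype.val (LinearMap.congr_fun (hw y) x)
    rw [hc, LinearMap.smul_apply, Module.End.one_apply] at h1
    have hc1 : c = 1 :=
      smul_left_injective K (fun h0 => hx (Subtype.ext h0)) (h1.trans (one_smul K (x : W)).symm)
    rw [hc, hc1, one_smul]
  have hfreeM : ∀ x, x⁻¹ * τ x ∈ M → x ∈ M := by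
    intro x hx
    obtain ⟨y, hy, hz⟩ := hdec _ hx
    set z := (y⁻¹ * τ y)⁻¹ * (x⁻¹ * τ x) with hzdef
    have h1 : (x * y⁻¹)⁻¹ * τ (x * y⁻¹) = z := by
      have hc := Subgroup.mem_center_iff.mp (hZc hz) (τ y)
      calc (x * y⁻¹)⁻¹ * τ (x * y⁻¹) = y * (x⁻¹ * τ x) * (τ y)⁻¹ := by
            rw [map_mul, map_inv]; group
        _ = τ y * z * (τ y)⁻¹ := by rw [hzdef]; group
        _ = z := by rw [hc, mul_inv_cancel_right]
    have h2 : x * y⁻¹ ∈ Z := hfree _ (h1.symm ▸ hz)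
    have h3 := mul_mem (hZM h2) hy
    rwa [inv_mul_cancel_right] at h3
  have hPK : ((p ^ (k + 1) : ℕ) : K) ≠ 0 := by
    rw [Nat.cast_pow]; exact pow_ne_zero _ hpK
  haveI : NeZero ((p ^ (k + 1) : ℕ) : K) := ⟨hPK⟩
  obtain ⟨ζ, hζ⟩ := HasEnoughRootsOfUnity.exists_primitiveRoot K (p ^ (k + 1))
  obtain ⟨d, o, hd, ho, hle⟩ := eigen_bound (Nat.one_lt_pow (Nat.succ_ne_zero k) hp.one_lt) hζ hPK
    M hne θ hθ hθM (free_of_tau hp θ hθ M hθM hfreeM) ρ' hMscal hMθ
    (fun x y => hZM (hcom x y)) hnd t'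
    (LinearMap.ext fun w => Subtype.ext (by rw [ht'pow, ht]; rfl))
    (fun w hw => Subtype.ext (hfix _ (congrArg Subtype.val hw)))
    (fun a => LinearMap.ext fun w => Subtype.ext (LinearMap.congr_fun (htρ a) (w : W)))
  obtain ⟨f, hf⟩ := hR.index M
  have hd2 : 2 ≤ d := by
    by_contra h
    have h1 : M.index = 0 ∨ M.index = 1 := by
      interval_cases d
      · exact Or.inl hd.symm
      · exact Or.inr hd.symm
    rcases h1 with h1 | h1
    · exact Subgroup.FiniteIndex.index_ne_zero h1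
    · exact hne (Subgroup.index_eq_one.mp h1)
  obtain ⟨hr2, e, he, hPe, hde⟩ := arith_bound hp hp2 (Nat.le_add_left 1 k) hr (hd.trans hf) hd2 ho hle
  exact ⟨hr2, e, he, hPe, by rw [← hd, hde, ← pow_mul, mul_comm]⟩

end Rep

end H28.SG
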