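import Mathlib
import Cfsg.Agent.H28.FPFAut

/-!
Common eigenvectors, orbits of eigenvectors under a twisting operator, and arithmetic for the
Shult–Gross theorem.
-/

set_option autoImplicit false
set_option linter.style.haveILetI false

namespace H28.SG

open Module

universe u v w

theorem aut_iterate {G : Type u} [Group G] (σ : MulAut G) (j : ℕ) (x : G) :
    (⇑σ)^[j] x = (σ ^ j) x := by
  induction j generalizing x with
  | zero => rfl
  | succ j ih => rw [Function.iterate_succ_apply, ih, pow_succ, MulAut.mul_apply]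

/-- Orbits of a permutation with period `P`, free outside one fixed point. -/
theorem card_orbits_free {T : Type u} [Finite T] (σ : Equiv.Perm T) {P : ℕ} (hP : 0 < P)
    (hσP : σ ^ P = 1) (t₀ : T) (h0 : σ t₀ = t₀)
    (hfree : ∀ k, 0 < k → k < P → ∀ t, (σ ^ k) t = t → t = t₀) (hT : ∃ t, t ≠ t₀) :
    Nat.card T + P = P * Nat.card (MulAction.orbitRel.Quotient (Subgroup.zpowers σ) T) + 1 := by
  classical
  haveI := Fintype.ofFinite T
  have hord : orderOf σ = P := by
    refine le_antisymm (orderOf_le_of_pow_eq_one hP hσP) ?_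
    by_contra h
    obtain ⟨t, ht⟩ := hT
    exact ht (hfree _ (orderOf_pos σ) (not_le.mp h) t
      (by rw [pow_orderOf_eq_one]; rfl))
  have hcard : Fintype.card (Subgroup.zpowers σ) = P := by
    rw [← Nat.card_eq_fintype_card, Nat.card_zpowers, hord]
  have hburn := MulAction.sum_card_fixedBy_eq_card_orbits_mul_card_group (Subgroup.zpowers σ) T
  have h1 : Fintype.card (MulAction.fixedBy T (1 : Subgroup.zpowers σ)) = Nat.card T := by
    rw [← Nat.card_eq_fintype_card]
    exact Nat.card_congr (Equiv.subtypeUnivEquiv (fun t => one_smul _ t))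
  have h2 : ∀ g : Subgroup.zpowers σ, g ≠ 1 → Fintype.card (MulAction.fixedBy T g) = 1 := by
    intro g hg
    obtain ⟨k, hkP, hkeq⟩ : ∃ k < P, σ ^ k = (g : Equiv.Perm T) := by
      have hm := g.2
      rw [IsOfFinOrder.mem_zpowers_iff_mem_range_orderOf (isOfFinOrder_of_finite σ), hord,
        Finset.mem_image] at hm
      obtain ⟨k, hk, hk'⟩ := hm
      exact ⟨k, Finset.mem_range.mp hk, hk'⟩
    have hk0 : 0 < k := Nat.pos_of_ne_zero fun h => hg (Subtype.ext (by rw [← hkeq, h]; simp))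
    have hg0 : (g : Equiv.Perm T) t₀ = t₀ := by
      rw [← hkeq]
      exact Equiv.Perm.pow_apply_eq_self_of_apply_eq_self h0 k
    rw [Fintype.card_eq_one_iff]
    exact ⟨⟨t₀, hg0⟩, fun t => Subtype.ext (hfree k hk0 hkP t (by rw [hkeq]; exact t.2))⟩
  rw [← Finset.add_sum_erase _ _ (Finset.mem_univ (1 : Subgroup.zpowers σ)), h1,
    Finset.sum_congr rfl (fun g hg => h2 g (Finset.ne_of_mem_erase hg)), Finset.sum_const,
    Finset.card_erase_of_mem (Finset.mem_univ _), Finset.card_univ, hcard, smul_eq_mul,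
    mul_one] at hburn
  have hΩ : Nat.card (MulAction.orbitRel.Quotient (Subgroup.zpowers σ) T) =
      Fintype.card (Quotient (MulAction.orbitRel (Subgroup.zpowers σ) T)) :=
    Nat.card_eq_fintype_card
  rw [hΩ, mul_comm P]
  omega

/-- The Hall–Higman arithmetic for an odd prime power. -/
theorem arith_bound {p m r d o f : ℕ} (hp : p.Prime) (hp2 : p ≠ 2) (hm : 1 ≤ m) (hr : r.Prime)
    (hd : d ^ 2 = r ^ f) (hd1 : 2 ≤ d) (ho : d ^ 2 + p ^ m = p ^ m * o + 1)
    (hle : d ^ 2 ≤ (p ^ m - 1) * o) :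
    r = 2 ∧ ∃ e, 1 ≤ e ∧ p ^ m = 2 ^ e + 1 ∧ d = 2 ^ e := by
  obtain ⟨e, -, rfl⟩ := (Nat.dvd_prime_pow hr).mp (hd ▸ dvd_pow_self d two_ne_zero)
  have he : 1 ≤ e := by
    rcases Nat.eq_zero_or_pos e with h | h
    · subst h; norm_num at hd1
    · exact h
  set d := r ^ e
  obtain ⟨P', hP'⟩ : ∃ P', p ^ m = P' + 1 :=
    ⟨p ^ m - 1, by have := Nat.one_le_pow m p hp.pos; omega⟩
  rw [hP'] at ho hle ⊢
  simp only [Nat.add_sub_cancel] at hle
  have hdP : d ≤ P' := by
    by_contra h
    have h' : (P' + 1) * (P' + 1) ≤ d * d := Nat.mul_le_mul (by omega) (by omega)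
    nlinarith
  obtain ⟨c, hc⟩ : ∃ c, d = c + 1 := ⟨d - 1, by omega⟩
  have hdvd : P' + 1 ∣ c * (c + 2) := by
    rcases Nat.eq_zero_or_pos o with h | h
    · subst h; nlinarith
    · obtain ⟨o', rfl⟩ : ∃ o', o = o' + 1 := ⟨o - 1, by omega⟩
      refine ⟨o', ?_⟩
      rw [hc] at ho
      nlinarith
  have hP : P' + 1 ∣ c + 2 := by
    rw [← hP'] at hdvd ⊢
    by_cases hpc : p ∣ c
    · have hpc2 : ¬ p ∣ c + 2 := fun h => hp2 ((Nat.prime_dvd_prime_iff_eq hp Nat.prime_two).mp
        ((Nat.dvd_add_right hpc).mp h))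
      have h := ((hp.coprime_iff_not_dvd.mpr hpc2).pow_left m).dvd_of_dvd_mul_right hdvd
      have := Nat.le_of_dvd (by omega) h
      omega
    · exact ((hp.coprime_iff_not_dvd.mpr hpc).pow_left m).dvd_of_dvd_mul_left hdvd
  have hPd : P' = d := by
    have := Nat.le_of_dvd (by omega) hP
    omega
  have heven : Even d := by
    obtain ⟨k, hk⟩ := (hp.odd_of_ne_two hp2).pow (n := m)
    rw [hP'] at hk
    exact ⟨k, by omega⟩
  have hr2 : r = 2 := by
    rw [Nat.even_pow] at heven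
    exact hr.even_iff.mp heven.1
  subst hr2
  exact ⟨rfl, e, he, by rw [hPd], rfl⟩

/-- The multiplicative order of `2` modulo `p ^ (m + i)` when `p ^ m = 2 ^ e + 1`. -/
theorem arith_final {p m i e D : ℕ} (hp : p.Prime) (hp2 : p ≠ 2) (hm : 1 ≤ m)
    (he : 1 ≤ e) (hPe : p ^ m = 2 ^ e + 1) (hD : 0 < D) (hdvd : p ^ (m + i) ∣ 2 ^ D - 1) :
    2 * e * p ^ i ≤ D := by
  haveI := Fact.mk hp
  have h2e : 2 ^ (2 * e) - 1 = p ^ m * (2 ^ e - 1) := by
    rw [hPe, mul_comm 2 e, pow_mul]
    simpa using Nat.sq_sub_sq (2 ^ e) 1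
  have hmD : p ^ m ∣ 2 ^ D - 1 := (pow_dvd_pow p (Nat.le_add_right m i)).trans hdvd
  have hg : p ^ m ∣ 2 ^ Nat.gcd D (2 * e) - 1 := by
    rw [← Nat.pow_sub_one_gcd_pow_sub_one]
    exact Nat.dvd_gcd hmD ⟨_, h2e⟩
  have hdvdD : 2 * e ∣ D := by
    by_contra hnd
    obtain ⟨c, hc⟩ := Nat.gcd_dvd_right D (2 * e)
    have hg0 : 0 < Nat.gcd D (2 * e) := Nat.gcd_pos_of_pos_left _ hD
    have hge : Nat.gcd D (2 * e) ≤ e := by
      rcases Nat.lt_trichotomy c 1 with h | h | h
      · interval_cases c; omega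
      · subst h
        exact absurd (show 2 * e ∣ D by rw [hc, mul_one]; exact Nat.gcd_dvd_left D (2 * e)) hnd
      · nlinarith
    have h1 : 2 ^ 1 ≤ 2 ^ Nat.gcd D (2 * e) := Nat.pow_le_pow_right (by omega) hg0
    have h2 : 2 ^ Nat.gcd D (2 * e) ≤ 2 ^ e := Nat.pow_le_pow_right (by omega) hge
    have := Nat.le_of_dvd (by omega) hg
    omega
  obtain ⟨q, rfl⟩ := hdvdD
  have hq : q ≠ 0 := fun h => by subst h; simp at hD
  have hx1 : 1 < 2 ^ (2 * e) := Nat.one_lt_two_pow (by omega)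
  have hxp : ¬ p ∣ 2 ^ (2 * e) := fun h =>
    hp2 ((Nat.prime_dvd_prime_iff_eq hp Nat.prime_two).mp (hp.dvd_of_dvd_pow h))
  have hpe : ¬ p ∣ 2 ^ e - 1 := by
    intro h
    have h3 : p ∣ 2 ^ e + 1 := hPe ▸ dvd_pow_self p (by omega)
    have h4 := Nat.dvd_sub h3 h
    have h5 : 2 ^ e + 1 - (2 ^ e - 1) = 2 := by have := Nat.one_le_two_pow (n := e); omega
    rw [h5] at h4
    exact hp2 ((Nat.prime_dvd_prime_iff_eq hp Nat.prime_two).mp h4)
  have hv : padicValNat p (2 ^ (2 * e) - 1) = m := by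
    rw [h2e, padicValNat.mul (pow_ne_zero _ hp.ne_zero) (fun h => hpe (by rw [h]; exact dvd_zero p)),
      padicValNat.prime_pow, padicValNat.eq_zero_of_not_dvd hpe, add_zero]
  have hlte := padicValNat.pow_sub_pow (p := p) (hp.odd_of_ne_two hp2) hx1
    ((dvd_pow_self p (by omega : m ≠ 0)).trans ⟨_, h2e⟩) hxp hq
  rw [one_pow, hv, ← pow_mul] at hlte
  have hne : 2 ^ (2 * e * q) - 1 ≠ 0 := by
    have := Nat.one_lt_two_pow (n := 2 * e * q) (by omega)
    omega
  have hle : m + i ≤ m + padicValNat p q := by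
    rw [← hlte]
    exact (padicValNat_dvd_iff_le hne).mp hdvd
  have hqi : p ^ i ≤ q := Nat.le_of_dvd (Nat.pos_of_ne_zero hq)
    ((padicValNat_dvd_iff_le hq).mpr (by omega))
  exact Nat.mul_le_mul_left _ hqi

section Eig

variable {K : Type v} [Field K] {W : Type w} [AddCommGroup W] [Module K W]
variable {A : Type u}

/-- `v` is a common eigenvector with eigenvalues `μ`. -/
def Eig (F : A → Module.End K W) (μ : A → K) (v : W) : Prop := ∀ a, F a v = μ a • v

/-- The common eigenspace. -/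
def eigSpace (F : A → Module.End K W) (μ : A → K) : Submodule K W :=
  ⨅ a, Module.End.eigenspace (F a) (μ a)

theorem mem_eigSpace {F : A → Module.End K W} {μ : A → K} {v : W} :
    v ∈ eigSpace F μ ↔ Eig F μ v := by
  simp [eigSpace, Eig, Submodule.mem_iInf]

/-- Precomposition with the inverse of a permutation. -/
def tw (θ : A ≃ A) (μ : A → K) : A → K := μ ∘ θ.symm

omit [Field K] in
theorem tw_iterate_apply (θ : A ≃ A) (j : ℕ) (μ : A → K) (a : A) :
    ((tw θ)^[j] μ) ((⇑θ)^[j] a) = μ a := by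
  induction j generalizing a μ with
  | zero => rfl
  | succ j ih =>
    rw [Function.iterate_succ_apply', Function.iterate_succ_apply']
    simp [tw, ih]

theorem Eig.twist {F : A → Module.End K W} {θ : A ≃ A} {s : Module.End K W}
    (hs : ∀ a, s * F a = F (θ a) * s) {μ : A → K} {v : W} (h : Eig F μ v) :
    Eig F (tw θ μ) (s v) := by
  intro a
  have h1 := congrArg (fun f : Module.End K W => f v) (hs (θ.symm a))
  simp only [Module.End.mul_apply, Equiv.apply_symm_apply] at h1
  rw [← h1, h (θ.symm a), map_smul]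
  rfl

theorem Eig.twist_pow {F : A → Module.End K W} {θ : A ≃ A} {s : Module.End K W}
    (hs : ∀ a, s * F a = F (θ a) * s) {μ : A → K} {v : W} (h : Eig F μ v) (j : ℕ) :
    Eig F ((tw θ)^[j] μ) ((s ^ j) v) := by
  induction j with
  | zero => simpa using h
  | succ j ih =>
    rw [Function.iterate_succ_apply', pow_succ', Module.End.mul_apply]
    exact ih.twist hs

/-- Eigenvectors for distinct systems of eigenvalues are independent. -/
theorem eig_indep {ι : Type*} (F : A → Module.End K W) (μ : ι → A → K) (S : Finset ι)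
    (hμ : Set.InjOn μ ↑S) (v : ι → W) (hv : ∀ j ∈ S, Eig F (μ j) (v j))
    (h0 : ∑ j ∈ S, v j = 0) : ∀ j ∈ S, v j = 0 := by
  classical
  induction S using Finset.induction generalizing v with
  | empty => simp
  | @insert j₀ S hj₀ ih =>
    have hS : Set.InjOn μ ↑S := hμ.mono (Finset.coe_subset.mpr (Finset.subset_insert _ _))
    have hzero : ∀ j ∈ S, v j = 0 := by
      intro j hj
      obtain ⟨a, ha⟩ : ∃ a, μ j a ≠ μ j₀ a := by
        by_contra hcon
        push Not at hcon
        exact hj₀ ((hμ (Finset.mem_coe.mpr (Finset.mem_insert_of_mem hj))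
          (Finset.mem_coe.mpr (Finset.mem_insert_self _ _)) (funext hcon)) ▸ hj)
      have h1 : ∑ i ∈ S, (μ i a - μ j₀ a) • v i = 0 := by
        have h2 : ∑ i ∈ insert j₀ S, (μ i a - μ j₀ a) • v i = 0 := by
          have h3 : ∀ i ∈ insert j₀ S, (μ i a - μ j₀ a) • v i = F a (v i) - μ j₀ a • v i :=
            fun i hi => by rw [sub_smul, hv i hi a]
          rw [Finset.sum_congr rfl h3, Finset.sum_sub_distrib, ← map_sum, ← Finset.smul_sum, h0,
            map_zero, smul_zero, sub_zero]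
        rwa [Finset.sum_insert hj₀, sub_self, zero_smul, zero_add] at h2
      have h4 := ih hS (fun i => (μ i a - μ j₀ a) • v i)
        (fun i hi b => by
          rw [map_smul, hv i (Finset.mem_insert_of_mem hi) b, smul_comm]) h1 j hj
      exact (smul_eq_zero.mp h4).resolve_left (sub_ne_zero.mpr ha)
    intro j hj
    rcases Finset.mem_insert.mp hj with rfl | hj'
    · rw [Finset.sum_insert hj₀, Finset.sum_eq_zero hzero, add_zero] at h0
      exact h0
    · exact hzero j hj'

/-- A regular orbit of systems of eigenvalues gives a fixed vector. -/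
theorem eq_zero_of_injOn {F : A → Module.End K W} {θ : A ≃ A} {s : Module.End K W}
    (hs : ∀ a, s * F a = F (θ a) * s) (hfix : ∀ v, s v = v → v = 0) {μ : A → K} {v : W}
    (h : Eig F μ v) {L : ℕ} (hL : 0 < L) (hinj : Set.InjOn (fun j => (tw θ)^[j] μ) (Set.Iio L))
    (hv : (s ^ L) v = v) : v = 0 := by
  have hw : ∑ j ∈ Finset.range L, (s ^ j) v = 0 := by
    refine hfix _ ?_
    rw [map_sum]
    have e : ∀ j ∈ Finset.range L, s ((s ^ j) v) = (s ^ (j + 1)) v := fun j _ => by
      rw [pow_succ', Module.End.mul_apply]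
    rw [Finset.sum_congr rfl e]
    have h1 := (Finset.sum_range_succ' (fun j => (s ^ j) v) L).symm.trans
      (Finset.sum_range_succ (fun j => (s ^ j) v) L)
    simp only [hv, pow_zero, Module.End.one_apply] at h1
    exact add_right_cancel h1
  have := eig_indep F (fun j => (tw θ)^[j] μ) (Finset.range L)
    (by simpa [Finset.coe_range] using hinj) (fun j => (s ^ j) v) (fun j _ => h.twist_pow hs j)
    hw 0 (Finset.mem_range.mpr hL)
  simpa using this

theorem tw_iterate_of_period {θ : A ≃ A} {P : ℕ} (hθ : ∀ a, (⇑θ)^[P] a = a) (μ : A → K) :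
    (tw θ)^[P] μ = μ := by
  funext a
  conv_lhs => rw [← hθ a]
  exact tw_iterate_apply θ P μ a

/-- Eigenvalue systems are fixed by the element of order `p` of a fixed-point-free twist. -/
theorem tau_fixes {p k : ℕ} (hp : p.Prime) {F : A → Module.End K W} {θ : A ≃ A}
    {s : Module.End K W} (hs : ∀ a, s * F a = F (θ a) * s) (hfix : ∀ v, s v = v → v = 0)
    (hθ : ∀ a, (⇑θ)^[p ^ (k + 1)] a = a) (hsP : s ^ p ^ (k + 1) = 1) {μ : A → K} {v : W}
    (h : Eig F μ v) (hv : v ≠ 0) (a : A) : μ ((⇑θ)^[p ^ k] a) = μ a := by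
  have hP : Function.IsPeriodicPt (tw θ) (p ^ (k + 1)) μ := tw_iterate_of_period hθ μ
  obtain ⟨j, hj, hjL⟩ := (Nat.dvd_prime_pow hp).mp hP.minimalPeriod_dvd
  have hjk : j ≤ k := by
    by_contra hjk
    refine hv (eq_zero_of_injOn hs hfix h (pow_pos hp.pos (k + 1)) ?_ (by rw [hsP]; rfl))
    have : Function.minimalPeriod (tw θ) μ = p ^ (k + 1) := by
      rw [hjL]; congr 1; omega
    rw [← this]
    exact Function.iterate_injOn_Iio_minimalPeriod
  have hk : (tw θ)^[p ^ k] μ = μ :=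
    (Function.isPeriodicPt_minimalPeriod (tw θ) μ).trans_dvd
      (hjL ▸ pow_dvd_pow p hjk)
  conv_lhs => rw [← hk]
  exact tw_iterate_apply θ (p ^ k) μ a

theorem eig_mul {M : Type u} [Monoid M] {F : M →* Module.End K W}
    {μ : M → K} {v : W} (h : Eig (⇑F) μ v) (hv : v ≠ 0) (a b : M) :
    μ (a * b) = μ a * μ b := by
  apply smul_left_injective K hv
  show μ (a * b) • v = (μ a * μ b) • v
  rw [← h (a * b), map_mul, Module.End.mul_apply, h b, map_smul, h a, smul_smul, mul_comm]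

theorem eig_one {M : Type u} [Monoid M] {F : M →* Module.End K W}
    {μ : M → K} {v : W} (h : Eig (⇑F) μ v) (hv : v ≠ 0) : μ 1 = 1 := by
  apply smul_left_injective K hv
  show μ 1 • v = (1 : K) • v
  rw [← h 1, map_one, Module.End.one_apply, one_smul]

theorem eig_ne_zero {M : Type u} [Group M] {F : M →* Module.End K W}
    {μ : M → K} {v : W} (h : Eig (⇑F) μ v) (hv : v ≠ 0) (a : M) : μ a ≠ 0 := by
  intro h0
  have := eig_mul h hv a a⁻¹
  rw [mul_inv_cancel, eig_one h hv, h0, zero_mul] at this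
  exact one_ne_zero this

/-- A commuting family has a common eigenvector in each non-zero invariant subspace. -/
theorem exists_eig_mem [IsAlgClosed K] [FiniteDimensional K W] (F : A → Module.End K W)
    (hcomm : ∀ a b, Commute (F a) (F b)) (U : Submodule K W) (hU : U ≠ ⊥)
    (hinv : ∀ a, ∀ v ∈ U, F a v ∈ U) : ∃ μ : A → K, ∃ v ∈ U, v ≠ 0 ∧ Eig F μ v := by
  obtain ⟨S, ⟨hS0, hSinv, hSle⟩, hSmin⟩ := wellFounded_lt.has_min
    {V : Submodule K W | V ≠ ⊥ ∧ (∀ a, ∀ v ∈ V, F a v ∈ V) ∧ V ≤ U} ⟨U, hU, hinv, le_rfl⟩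
  haveI : Nontrivial S := Submodule.nontrivial_iff_ne_bot.mpr hS0
  have hsc : ∀ a, ∃ c : K, ∀ v ∈ S, F a v = c • v := by
    intro a
    obtain ⟨c, hc⟩ := Module.End.exists_eigenvalue ((F a).restrict (hSinv a))
    obtain ⟨w, hw, hw0⟩ := hc.exists_hasEigenvector
    refine ⟨c, fun v hv => ?_⟩
    have hE : S ⊓ Module.End.eigenspace (F a) c = S := by
      refine eq_of_le_of_not_lt inf_le_left fun hlt => hSmin _ ⟨?_, ?_, inf_le_left.trans hSle⟩ hlt
      · rw [Submodule.ne_bot_iff]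
        refine ⟨w, ⟨w.2, Module.End.mem_eigenspace_iff.mpr ?_⟩, fun h => hw0 (Subtype.ext h)⟩
        exact congrArg Subtype.val (Module.End.mem_eigenspace_iff.mp hw)
      · rintro b x ⟨hx1, hx2⟩
        refine ⟨hSinv b x hx1, Module.End.mem_eigenspace_iff.mpr ?_⟩
        have := congrArg (fun f : Module.End K W => f x) (hcomm a b).eq
        simp only [Module.End.mul_apply] at this
        rw [this, Module.End.mem_eigenspace_iff.mp hx2, map_smul]
    exact Module.End.mem_eigenspace_iff.mp (hE.ge hv).2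
  choose μ hμ using hsc
  obtain ⟨v, hv, hv0⟩ := Submodule.exists_mem_ne_zero_of_ne_bot hS0
  exact ⟨μ, v, hSle hv, hv0, fun a => hμ a v hv⟩

end Eig

end H28.SG
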