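import Cfsg.Agent.H28.ShultGross.Core

/-!
Shult–Gross: the faithful minimal configuration does not exist.
-/

set_option autoImplicit false
set_option linter.style.haveILetI false

namespace H28.SG

open Module
open scoped commutatorElement

universe u v w

variable {K : Type v} [Field K] [IsAlgClosed K] {W : Type w} [AddCommGroup W] [Module K W]
  [FiniteDimensional K W]

omit [IsAlgClosed K] [FiniteDimensional K W] in
theorem radical_ne_top_of {R : Type u} [Group R] {ρ : R →* Module.End K W} {x y : R}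
    (h : ρ ⁅x, y⁆ ≠ 1) : radical ρ ≠ ⊤ := by
  intro htop
  exact h (map_commutator_eq_one (mem_radical.mp (htop ▸ Subgroup.mem_top y) x))

/-- The orbit of a central character nontrivial on commutators is impossible. -/
theorem orbit_absurd {p n r : ℕ} (hp : p.Prime) (hp2 : p ≠ 2) (hr : r.Prime) (hpK : (p : K) ≠ 0)
    {R : Type u} [Group R] [Finite R] (hR : IsPGroup r R) (Z : Subgroup R)
    (hZc : Z ≤ Subgroup.center R) (hcom : ∀ x y : R, ⁅x, y⁆ ∈ Z) (σ : MulAut R)
    (hσ : σ ^ p ^ (n + 1) = 1) (hfpf : FPF σ) (hσZ : ∀ x ∈ Z, σ x ∈ Z)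
    (hτZ : ∀ z ∈ Z, (σ ^ p ^ n) z = z) (hfree : ∀ x, x⁻¹ * (σ ^ p ^ n) x ∈ Z → x ∈ Z)
    (hirr : ∀ S : Subgroup R, (∀ x ∈ S, σ x ∈ S) → Z ≤ S → S ≠ ⊤ → S ≤ Z)
    (ρ : R →* Module.End K W) (s : Module.End K W) (hs : s ^ p ^ (n + 1) = 1)
    (hsfix : ∀ v, s v = v → v = 0) (hsρ : ∀ a, s * ρ a = ρ (σ a) * s)
    (μ : Z → K) (v : W) (hv : v ≠ 0) (hμ : Eig (fun z : Z => ρ z) μ v) (x₁ y₁ : R)
    (hμ1 : μ ⟨⁅x₁, y₁⁆, hcom x₁ y₁⟩ ≠ 1) : False := by
  classical
  haveI := Fact.mk hr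
  haveI : Z.Normal := ⟨fun x hx g => by
    rw [Subgroup.mem_center_iff.mp (hZc hx) g, mul_inv_cancel_right]; exact hx⟩
  let F : Z →* Module.End K W := ρ.comp Z.subtype
  have hμ' : Eig (⇑F) μ v := hμ
  let σZ : MulAut Z := subAut σ Z hσZ
  have hsF : ∀ z : Z, s * F z = F (σZ.toEquiv z) * s := fun z => hsρ z
  have hit : ∀ j (z : Z), ((⇑σZ.toEquiv)^[j] z : R) = (σ ^ j) (z : R) := fun j z => by
    rw [show ⇑σZ.toEquiv = ⇑σZ from rfl, aut_iterate, subAut_pow_coe]
  set f : (Z → K) → (Z → K) := tw σZ.toEquiv with hf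
  have hper : f^[p ^ n] μ = μ :=
    tw_iterate_of_period (fun z => Subtype.ext (by rw [hit, hτZ _ z.2])) μ
  obtain ⟨i, hin, hiL⟩ := (Nat.dvd_prime_pow hp).mp
    (Function.IsPeriodicPt.minimalPeriod_dvd (hper : Function.IsPeriodicPt f (p ^ n) μ))
  set L := p ^ i with hL
  have hL0 : 0 < L := pow_pos hp.pos i
  have hfL : f^[L] μ = μ := hiL ▸ Function.isPeriodicPt_minimalPeriod f μ
  have hmul := eig_mul hμ' hv
  -- the character is not fixed by the automorphism
  have hi : i ≠ 0 := by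
    intro h0
    have h1 : f μ = μ := by simpa [hL, h0] using hfL
    apply hμ1
    obtain ⟨z, hz⟩ := (fpf_bijective (fpf_subAut hfpf Z hσZ)).2 ⟨⁅x₁, y₁⁆, hcom x₁ y₁⟩
    rw [← hz]
    show μ (z⁻¹ * σZ z) = 1
    have h2 := hmul z (z⁻¹ * σZ z)
    rw [mul_inv_cancel_left] at h2
    have h3 : μ (σZ z) = μ z := by
      have h4 := tw_iterate_apply σZ.toEquiv 1 μ z
      rwa [Function.iterate_one, Function.iterate_one, ← hf, h1] at h4
    rw [h3] at h2
    exact (mul_eq_left₀ (eig_ne_zero hμ' hv z)).mp h2.symm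
  -- iterates
  let μj : ℕ → Z → K := fun j => f^[j] μ
  have hsu : IsUnit s := (isUnit_pow_iff (pow_ne_zero (n + 1) hp.ne_zero)).mp (hs ▸ isUnit_one)
  have hvj : ∀ j, (s ^ j) v ≠ 0 := fun j h =>
    hv (((Module.End.isUnit_iff _).mp (hsu.pow j)).1 (h.trans (map_zero (s ^ j)).symm))
  have hμj : ∀ j, Eig (⇑F) (μj j) ((s ^ j) v) := fun j => hμ'.twist_pow hsF j
  have hμjL : ∀ j, f^[L] (μj j) = μj j := fun j => by
    show f^[L] (f^[j] μ) = f^[j] μ
    rw [← Function.iterate_add_apply, add_comm, Function.iterate_add_apply, hfL]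
  have hperj : ∀ j, Function.minimalPeriod f (μj j) = L := fun j => by
    rw [← hiL]
    exact Function.minimalPeriod_apply_iterate
      (Function.mk_mem_periodicPts hL0 (hfL : Function.IsPeriodicPt f L μ)) j
  let c : R → R → Z := fun x y => ⟨⁅x, y⁆, hcom x y⟩
  have hshift : ∀ j x y, μj (j + 1) (c (σ x) (σ y)) = μj j (c x y) := by
    intro j x y
    have e : c (σ x) (σ y) = σZ (c x y) := Subtype.ext (map_commutatorElement σ x y).symm
    rw [e]
    show f^[j + 1] μ (σZ (c x y)) = _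
    rw [Function.iterate_succ_apply']
    exact tw_iterate_apply σZ.toEquiv 1 (f^[j] μ) (c x y)
  have hnc : ∀ j, ∃ x y, μj j (c x y) ≠ 1 := by
    intro j
    induction j with
    | zero => exact ⟨x₁, y₁, hμ1⟩
    | succ j ih =>
      obtain ⟨x, y, h⟩ := ih
      exact ⟨σ x, σ y, by rwa [hshift]⟩
  -- the homogeneous parts
  let Wj : ℕ → Submodule K W := fun j => eigSpace (⇑F) (μj j)
  have hWρ : ∀ j a, ∀ w ∈ Wj j, ρ a w ∈ Wj j := by
    intro j a w hw
    rw [mem_eigSpace] at hw ⊢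
    intro z
    show ρ z (ρ a w) = μj j z • ρ a w
    rw [← Module.End.mul_apply, ← map_mul, ← Subgroup.mem_center_iff.mp (hZc z.2) a, map_mul,
      Module.End.mul_apply, show ρ z w = μj j z • w from hw z, map_smul]
  let ρj : ∀ j, R →* Module.End K (Wj j) := fun j => subRep ρ (Wj j) (hWρ j)
  have hnt : ∀ j, Nontrivial (Wj j) := fun j => Submodule.nontrivial_iff_ne_bot.mpr
    ((Submodule.ne_bot_iff _).mpr ⟨_, mem_eigSpace.mpr (hμj j), hvj j⟩)
  have hscal : ∀ j (z : Z), ρj j z = μj j z • (1 : Module.End K (Wj j)) := fun j z =>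
    LinearMap.ext fun w => Subtype.ext (mem_eigSpace.mp w.2 z)
  have hone : ∀ j (z : Z), ρj j z = 1 ↔ μj j z = 1 := by
    intro j z
    haveI := hnt j
    rw [hscal j z]
    refine ⟨fun h => ?_, fun h => by rw [h, one_smul]⟩
    obtain ⟨w, hw⟩ := exists_ne (0 : Wj j)
    exact smul_left_injective K hw ((LinearMap.congr_fun h w).trans (one_smul K w).symm)
  let M : ℕ → Subgroup R := fun j => radical (ρj j)
  have hM : ∀ j x, x ∈ M j ↔ ∀ y, μj j (c y x) = 1 := by
    intro j x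
    rw [mem_radical]
    refine forall_congr' fun y => ?_
    rw [← hone]
    exact ⟨map_commutator_eq_one, commute_of_map_commutator⟩
  have hM1 : ∀ j, M j ≠ ⊤ := fun j => by
    obtain ⟨x, y, h⟩ := hnc j
    exact radical_ne_top_of (x := x) (y := y) fun h1 => h ((hone j (c x y)).mp h1)
  -- the Hall–Higman step
  obtain ⟨k, hk⟩ : ∃ k, n = i + k := ⟨n - i, by omega⟩
  set θ := σ ^ L with hθ
  have hexp : L * p ^ (k + 1) = p ^ (n + 1) := by rw [hL, ← pow_add, hk]; ring
  have hexp' : L * p ^ k = p ^ n := by rw [hL, ← pow_add, hk]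
  have hθP : θ ^ p ^ (k + 1) = 1 := by rw [hθ, ← pow_mul, hexp, hσ]
  have hθτ : θ ^ p ^ k = σ ^ p ^ n := by rw [hθ, ← pow_mul, hexp']
  have hHH : ∀ j, r = 2 ∧ ∃ e, 1 ≤ e ∧ p ^ (k + 1) = 2 ^ e + 1 ∧ (M j).index = 2 ^ (2 * e) := by
    intro j
    haveI := hnt j
    have hWt : ∀ w ∈ Wj j, (s ^ L) w ∈ Wj j := by
      intro w hw
      rw [mem_eigSpace] at hw ⊢
      have h1 := hw.twist_pow hsF L
      rwa [show (tw σZ.toEquiv)^[L] (μj j) = μj j from hμjL j] at h1
    have htp : ∀ m : ℕ, ∀ w : Wj j,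
        (((LinearMap.restrict (s ^ L) hWt) ^ m) w : W) = ((s ^ L) ^ m) (w : W) := by
      intro m
      induction m with
      | zero => intro w; rfl
      | succ m ih =>
        intro w
        rw [pow_succ', pow_succ', Module.End.mul_apply, Module.End.mul_apply]
        show (s ^ L) (((LinearMap.restrict (s ^ L) hWt) ^ m) w : W) = _
        rw [ih]
    refine lambda_bound hp hp2 hr hR hpK Z hZc hcom θ hθP
      (pow_mem_of_invariant hσZ L) (by rw [hθτ]; exact hfree) (ρj j)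
      (fun z hz => ⟨_, hscal j ⟨z, hz⟩⟩) ?_ ((s ^ L).restrict hWt) ?_ ?_ ?_ (hM1 j)
    · intro z hz
      have e : (⇑σZ.toEquiv)^[L] ⟨z, hz⟩ = ⟨θ z, pow_mem_of_invariant hσZ L z hz⟩ :=
        Subtype.ext (hit L _)
      have h1 : μj j ⟨θ z, pow_mem_of_invariant hσZ L z hz⟩ = μj j ⟨z, hz⟩ := by
        have h2 := tw_iterate_apply σZ.toEquiv L (μj j) ⟨z, hz⟩
        rwa [show (tw σZ.toEquiv)^[L] (μj j) = μj j from hμjL j, e] at h2
      rw [hscal j ⟨θ z, pow_mem_of_invariant hσZ L z hz⟩, hscal j ⟨z, hz⟩, h1]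
    · exact LinearMap.ext fun w => Subtype.ext (by rw [htp, ← pow_mul, hexp, hs]; rfl)
    · intro w hw
      refine Subtype.ext (eq_zero_of_injOn hsF hsfix (mem_eigSpace.mp w.2) hL0 ?_
        (congrArg Subtype.val hw))
      rw [← hperj j]
      exact Function.iterate_injOn_Iio_minimalPeriod
    · intro a
      exact LinearMap.ext fun w => Subtype.ext
        (LinearMap.congr_fun (pow_intertwine hsρ L a) (w : W))
  obtain ⟨hr2, e, he, hPe, -⟩ := hHH 0
  subst hr2
  have hindex : ∀ j, (M j).index = 2 ^ (2 * e) := by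
    intro j
    obtain ⟨-, e', -, hPe', h⟩ := hHH j
    have : 2 ^ e' = 2 ^ e := by omega
    rw [h, Nat.pow_right_injective le_rfl this]
  -- the product of the orbit is trivial
  have hprod : ∀ z : Z, ∏ j ∈ Finset.range L, μj j z = 1 := by
    let Λ : Z → K := fun z => ∏ j ∈ Finset.range L, μj j z
    have hΛmul : ∀ a b, Λ (a * b) = Λ a * Λ b := fun a b => by
      simp only [Λ, ← Finset.prod_mul_distrib]
      exact Finset.prod_congr rfl fun j _ => eig_mul (hμj j) (hvj j) a b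
    have hΛσ : ∀ z, Λ (σZ z) = Λ z := by
      intro z
      have h1 := (Finset.prod_range_succ (fun j => μj j (σZ z)) L).symm.trans
        (Finset.prod_range_succ' (fun j => μj j (σZ z)) L)
      have h2 : μj L = μj 0 := hfL
      simp only [h2] at h1
      have h3 := mul_right_cancel₀ (eig_ne_zero (hμj 0) (hvj 0) (σZ z)) h1
      show (∏ j ∈ Finset.range L, μj j (σZ z)) = _
      rw [h3]
      refine Finset.prod_congr rfl fun j _ => ?_
      show f^[j + 1] μ (σZ z) = _
      rw [Function.iterate_succ_apply']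
      exact tw_iterate_apply σZ.toEquiv 1 (f^[j] μ) z
    intro z
    obtain ⟨w, hw⟩ := (fpf_bijective (fpf_subAut hfpf Z hσZ)).2 z
    rw [← hw]
    show Λ (w⁻¹ * σZ w) = 1
    have h2 := hΛmul w (w⁻¹ * σZ w)
    rw [mul_inv_cancel_left, hΛσ] at h2
    exact (mul_eq_left₀ (Finset.prod_ne_zero_iff.mpr fun j _ => eig_ne_zero (hμj j) (hvj j) w)).mp
      h2.symm
  -- intersecting the radicals
  have hZM : ∀ j, Z ≤ M j := fun j z hz => by
    rw [hM]
    intro y
    have h1 : c y z = 1 := Subtype.ext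
      (commutatorElement_eq_one_iff_mul_comm.mpr (Subgroup.mem_center_iff.mp (hZc hz) y))
    rw [h1]
    exact eig_one (hμj j) (hvj j)
  have hMσ : ∀ j x, x ∈ M j → σ x ∈ M (j + 1) := by
    intro j x hx
    rw [hM] at hx ⊢
    intro y
    obtain ⟨y, rfl⟩ := σ.surjective y
    rw [hshift]
    exact hx y
  let I : Subgroup R := ⨅ j : Fin (L - 1), M ((j : ℕ) + 1)
  have hI : I ≤ Z := by
    intro x hx
    rw [Subgroup.mem_iInf] at hx
    have hx' : ∀ j, 0 < j → j < L → x ∈ M j := fun j h0 hj => by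
      have := hx ⟨j - 1, by omega⟩
      rwa [show j - 1 + 1 = j by omega] at this
    have hx0 : x ∈ M 0 := by
      rw [hM]
      intro y
      have h1 := hprod (c y x)
      rwa [Finset.prod_eq_single 0
        (fun j hj hj0 => (hM j x).mp (hx' j (Nat.pos_of_ne_zero hj0) (Finset.mem_range.mp hj)) y)
        (fun h => absurd (Finset.mem_range.mpr hL0) h)] at h1
    let J : Subgroup R := ⨅ j : Fin L, M j
    have hJ : ∀ z ∈ J, σ z ∈ J := by
      intro z hz
      rw [Subgroup.mem_iInf] at hz ⊢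
      rintro ⟨j, hj⟩
      rcases Nat.eq_zero_or_pos j with rfl | hj0
      · have h := hMσ (L - 1) z (hz ⟨L - 1, by omega⟩)
        have e1 : μj L = μj 0 := hfL
        rw [show L - 1 + 1 = L by omega] at h
        rw [hM] at h ⊢
        rwa [e1] at h
      · have h := hMσ (j - 1) z (hz ⟨j - 1, by omega⟩)
        rwa [show j - 1 + 1 = j by omega] at h
    refine hirr J hJ (le_iInf fun j => hZM j) ?_ ?_
    · exact fun h => hM1 0 (top_le_iff.mp (h ▸ iInf_le (fun j : Fin L => M j) ⟨0, hL0⟩))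
    · rw [Subgroup.mem_iInf]
      rintro ⟨j, hj⟩
      rcases Nat.eq_zero_or_pos j with rfl | hj0
      · exact hx0
      · exact hx' j hj0 hj
  -- counting
  have hbound : Z.index ≤ 2 ^ (2 * e * (L - 1)) := by
    refine le_trans (Nat.le_of_dvd (Nat.pos_of_ne_zero Subgroup.FiniteIndex.index_ne_zero)
      (Subgroup.index_dvd_of_le hI)) ?_
    refine (Subgroup.index_iInf_le _).trans (le_of_eq ?_)
    rw [Finset.prod_congr rfl (fun j _ => hindex _), Finset.prod_const, Finset.card_univ,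
      Fintype.card_fin, ← pow_mul]
  obtain ⟨D, hD⟩ := hR.index Z
  have hZtop : Z ≠ ⊤ := fun h => hM1 0 (top_le_iff.mp (h ▸ hZM 0))
  have hD0 : 0 < D := Nat.pos_of_ne_zero fun h => hZtop (Subgroup.index_eq_one.mp (by rw [hD, h]; rfl))
  let π : Equiv.Perm (R ⧸ Z) := (quotAut σ Z hσZ).toEquiv
  have hπ : ∀ m (x : R), (π ^ m) (x : R ⧸ Z) = ((σ ^ m) x : R) := by
    intro m
    induction m with
    | zero => intro x; rfl
    | succ m ih =>
      intro x
      rw [pow_succ', pow_succ', Equiv.Perm.mul_apply, ih, MulAut.mul_apply]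
      rfl
  have hcount := card_orbits_free π (pow_pos hp.pos (n + 1))
    (Equiv.ext fun t => by
      obtain ⟨x, rfl⟩ := QuotientGroup.mk_surjective t
      rw [hπ, hσ]; rfl) (1 : R ⧸ Z) (map_one (quotAut σ Z hσZ))
    (fun m hm0 hm t ht => by
      obtain ⟨x, rfl⟩ := QuotientGroup.mk_surjective t
      rw [hπ] at ht
      exact (QuotientGroup.eq_one_iff x).mpr
        (free_of_tau hp σ hσ Z hσZ hfree m hm0 hm x (QuotientGroup.eq.mp ht.symm)))
    (by
      by_contra hcon
      push Not at hcon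
      exact hZtop ((Subgroup.eq_top_iff' Z).mpr fun x => (QuotientGroup.eq_one_iff x).mp (hcon _)))
  rw [← Subgroup.index_eq_card, hD] at hcount
  have hdvd : p ^ ((k + 1) + i) ∣ 2 ^ D - 1 := by
    rw [show k + 1 + i = n + 1 by omega]
    set P := p ^ (n + 1)
    set o := Nat.card (MulAction.orbitRel.Quotient (Subgroup.zpowers π) (R ⧸ Z))
    refine ⟨o - 1, ?_⟩
    rw [Nat.mul_sub, mul_one]
    omega
  have h1 := arith_final hp hp2 (Nat.le_add_left 1 k) he hPe hD0 hdvd
  rw [← hL] at h1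
  have h2 : D ≤ 2 * e * (L - 1) := (Nat.pow_le_pow_iff_right Nat.one_lt_two).mp (hD ▸ hbound)
  have h3 : 2 * e * (L - 1) < 2 * e * L := Nat.mul_lt_mul_of_pos_left (by omega) (by omega)
  omega

/-- A fixed-point-free operator group of odd prime power order: the element of order `p` acts
trivially on the image of an `r`-group. -/
theorem core {p n r : ℕ} (hp : p.Prime) (hp2 : p ≠ 2) (hr : r.Prime) (hpK : (p : K) ≠ 0)
    (hrK : (r : K) ≠ 0) (N : ℕ) :
    ∀ (R : Type u) [Group R] [Finite R], Nat.card R ≤ N → IsPGroup r R →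
      ∀ σ : MulAut R, σ ^ p ^ (n + 1) = 1 → FPF σ →
      ∀ (ρ : R →* Module.End K W) (s : Module.End K W), s ^ p ^ (n + 1) = 1 →
      (∀ v, s v = v → v = 0) → (∀ a, s * ρ a = ρ (σ a) * s) →
      ∀ a, ρ ((σ ^ p ^ n) a) = ρ a := by
  induction N using Nat.strong_induction_on with
  | _ N ih =>
  intro R _ _ hN hR σ hσ hfpf ρ s hs hsfix hsρ a₀
  classical
  haveI := Fact.mk hr
  by_contra ha₀
  set τ := σ ^ p ^ n with hτdef
  have hτp : τ ^ p = 1 := by rw [hτdef, ← pow_mul, ← pow_succ, hσ]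
  have hpR : ¬ p ∣ Nat.card R := not_dvd_card_of_fpf hp hσ hfpf
  have hsu : IsUnit s := (isUnit_pow_iff (pow_ne_zero (n + 1) hp.ne_zero)).mp (hs ▸ isUnit_one)
  have hστ : ∀ x, σ (τ x) = τ (σ x) := fun x => by
    rw [hτdef, ← MulAut.mul_apply, ← pow_succ', pow_succ, MulAut.mul_apply]
  -- faithfulness
  have hinj : Function.Injective ρ := by
    rw [← MonoidHom.ker_eq_bot_iff]
    by_contra hker
    have hkσ : ∀ x ∈ ρ.ker, σ x ∈ ρ.ker := by
      intro x hx
      rw [MonoidHom.mem_ker] at hx ⊢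
      have h := hsρ x
      rw [hx, mul_one] at h
      exact hsu.mul_right_cancel (h.symm.trans (one_mul s).symm)
    have hlt : Nat.card (R ⧸ ρ.ker) < N := by
      refine lt_of_lt_of_le ?_ hN
      rw [Subgroup.card_eq_card_quotient_mul_card_subgroup ρ.ker]
      exact lt_mul_of_one_lt_right Nat.card_pos
        (Subgroup.one_lt_card_iff_ne_bot _ |>.mpr hker)
    have h := ih _ hlt (R ⧸ ρ.ker) le_rfl (hR.to_quotient _) (quotAut σ ρ.ker hkσ)
      (MulEquiv.ext fun q => by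
        obtain ⟨x, rfl⟩ := QuotientGroup.mk_surjective q
        rw [quotAut_pow_mk, hσ]; rfl)
      (fpf_quotAut hfpf ρ.ker hkσ) (QuotientGroup.lift ρ.ker ρ le_rfl) s hs hsfix
      (fun q => by
        obtain ⟨x, rfl⟩ := QuotientGroup.mk_surjective q
        exact hsρ x) (a₀ : R ⧸ ρ.ker)
    rw [quotAut_pow_mk] at h
    exact ha₀ h
  have hR0 : Nontrivial R := ⟨⟨τ a₀, a₀, fun h => ha₀ (congrArg ρ h)⟩⟩
  -- proper invariant subgroups are centralised by `τ`
  have hsub : ∀ S : Subgroup R, (∀ x ∈ S, σ x ∈ S) → S ≠ ⊤ → ∀ x ∈ S, τ x = x := by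
    intro S hS hne x hx
    have hlt : Nat.card S < N := lt_of_lt_of_le
      (lt_of_le_of_ne (Subgroup.card_le_card_group S) fun h => hne (Subgroup.eq_top_of_card_eq S h)) hN
    have h := ih _ hlt S le_rfl (hR.to_subgroup S) (subAut σ S hS)
      (MulEquiv.ext fun q => Subtype.ext (by rw [subAut_pow_coe, hσ]; rfl))
      (fpf_subAut hfpf S hS) (ρ.comp S.subtype) s hs hsfix (fun q => hsρ q) ⟨x, hx⟩
    apply hinj
    have h' : ρ (((subAut σ S hS) ^ p ^ n) ⟨x, hx⟩ : R) = ρ x := h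
    rwa [subAut_pow_coe] at h'
  -- the displacements generate
  let D : Subgroup R := Subgroup.closure (Set.range fun x => x⁻¹ * τ x)
  have hD : D = ⊤ := by
    by_contra hD
    have hDσ : ∀ x ∈ D, σ x ∈ D := by
      intro x hx
      induction hx using Subgroup.closure_induction with
      | mem y hy =>
        obtain ⟨z, rfl⟩ := hy
        exact Subgroup.subset_closure ⟨σ z, by rw [map_mul, map_inv, hστ]⟩
      | one => simp [one_mem]
      | mul y z _ _ hy hz => rw [map_mul]; exact mul_mem hy hz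
      | inv y _ hy => rw [map_inv]; exact inv_mem hy
    exact ha₀ (congrArg ρ (eq_of_fixed_disp hp hpR hτp
      (hsub D hDσ hD _ (Subgroup.subset_closure ⟨a₀, rfl⟩))))
  have hcentral : ∀ S : Subgroup R, S.Normal → (∀ x ∈ S, σ x ∈ S) → S ≠ ⊤ →
      S ≤ Subgroup.center R := by
    intro S hSn hS hne c hc
    rw [Subgroup.mem_center_iff]
    intro g
    have hg : g ∈ D := hD ▸ Subgroup.mem_top g
    induction hg using Subgroup.closure_induction with
    | mem y hy =>
      obtain ⟨z, rfl⟩ := hy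
      have h1 : τ (z * c * z⁻¹) = z * c * z⁻¹ := hsub S hS hne _ (hSn.conj_mem c hc z)
      rw [map_mul, map_mul, map_inv, hsub S hS hne c hc] at h1
      calc z⁻¹ * τ z * c = z⁻¹ * (τ z * c * (τ z)⁻¹) * τ z := by group
        _ = c * (z⁻¹ * τ z) := by rw [h1]; group
    | one => simp
    | mul y z _ _ hy hz => rw [mul_assoc, hz, ← mul_assoc, hy, mul_assoc]
    | inv y _ hy =>
      calc y⁻¹ * c = y⁻¹ * (c * y) * y⁻¹ := by group
        _ = c * y⁻¹ := by rw [← hy]; group
  set Z := Subgroup.center R with hZdef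
  have hσZ : ∀ x ∈ Z, σ x ∈ Z := char_apply_mem σ _
  have hk : ∀ a : R, ((orderOf a : ℕ) : K) ≠ 0 := by
    intro a
    obtain ⟨j, hj⟩ := IsPGroup.iff_orderOf.mp hR a
    rw [hj, Nat.cast_pow]
    exact pow_ne_zero _ hrK
  by_cases hab : Z = ⊤
  · -- abelian case
    have hcomm : ∀ x y : R, x * y = y * x := fun x y =>
      (Subgroup.mem_center_iff.mp (hab ▸ Subgroup.mem_top x : x ∈ Z) y).symm
    obtain ⟨a, ha⟩ : ∃ a : R, ρ a ≠ 1 := by
      by_contra hcon
      push Not at hcon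
      exact ha₀ (by rw [hcon, hcon])
    obtain ⟨μ, v, hv, hμ, hμa⟩ := exists_nontrivial_eig ρ
      (fun x y => show ρ x * ρ y = ρ y * ρ x by rw [← map_mul, hcomm, map_mul]) a ha _
      (pow_orderOf_eq_one a) (hk a)
    apply hμa
    have hg : a ∈ D := hD ▸ Subgroup.mem_top a
    clear ha hμa
    induction hg using Subgroup.closure_induction with
    | mem y hy =>
      obtain ⟨z, rfl⟩ := hy
      have h1 := tau_fixes hp (θ := σ.toEquiv) (k := n) hsρ hsfix
        (fun b => by rw [show ⇑σ.toEquiv = ⇑σ from rfl, aut_iterate, hσ]; rfl) hs hμ hv z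
      rw [show ⇑σ.toEquiv = ⇑σ from rfl, aut_iterate, ← hτdef] at h1
      have h2 := eig_mul hμ hv z (z⁻¹ * τ z)
      rw [mul_inv_cancel_left, h1] at h2
      exact (mul_eq_left₀ (eig_ne_zero hμ hv z)).mp h2.symm
    | one => exact eig_one hμ hv
    | mul y z _ _ hy hz => rw [eig_mul hμ hv, hy, hz, one_mul]
    | inv y _ hy =>
      have h2 := eig_mul hμ hv y y⁻¹
      rw [mul_inv_cancel, eig_one hμ hv, hy, one_mul] at h2
      exact h2.symm
  · -- nonabelian case
    have hτZ : ∀ z ∈ Z, τ z = z := hsub Z hσZ hab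
    haveI : Group.IsNilpotent R := hR.isNilpotent
    have hder : commutator R ≤ Z := by
      refine hcentral _ inferInstance (char_apply_mem σ _) ?_
      exact (Group.IsSolvable.commutator_lt_top_of_nontrivial R).ne
    have hcom : ∀ x y : R, ⁅x, y⁆ ∈ Z := fun x y =>
      hder (Subgroup.commutator_mem_commutator (Subgroup.mem_top x) (Subgroup.mem_top y))
    have hirr : ∀ S : Subgroup R, (∀ x ∈ S, σ x ∈ S) → Z ≤ S → S ≠ ⊤ → S ≤ Z := by
      intro S hS hZS hne
      refine hcentral S ⟨fun x hx g => ?_⟩ hS hne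
      have e : g * x * g⁻¹ = ⁅g, x⁆ * x := by rw [commutatorElement_def]; group
      rw [e]
      exact mul_mem (hZS (hcom g x)) hx
    have hfree : ∀ x, x⁻¹ * τ x ∈ Z → x ∈ Z := by
      intro x hx
      let S : Subgroup R := MonoidHom.eqLocus τ.toMonoidHom (MonoidHom.id R)
      have hmem : ∀ y, y ∈ S ↔ τ y = y := fun y => Iff.rfl
      refine hirr S (fun y hy => (hmem _).mpr (by rw [← hστ, (hmem y).mp hy]))
        (fun y hy => (hmem y).mpr (hτZ y hy)) ?_
        ((hmem x).mpr (eq_of_fixed_disp hp hpR hτp (hτZ _ hx)))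
      exact fun h => ha₀ (congrArg ρ ((hmem a₀).mp (h ▸ Subgroup.mem_top a₀)))
    obtain ⟨x₁, y₁, hxy⟩ : ∃ x y : R, ⁅x, y⁆ ≠ 1 := by
      by_contra hcon
      push Not at hcon
      exact hab ((Subgroup.eq_top_iff' Z).mpr fun x => Subgroup.mem_center_iff.mpr fun y =>
        commutatorElement_eq_one_iff_mul_comm.mp (hcon y x))
    let z₁ : Z := ⟨⁅x₁, y₁⁆, hcom x₁ y₁⟩
    obtain ⟨μ, v, hv, hμ, hμ1⟩ := exists_nontrivial_eig (ρ.comp Z.subtype)
      (fun a b => show ρ a * ρ b = ρ b * ρ a by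
        rw [← map_mul, ← map_mul, Subgroup.mem_center_iff.mp b.2 a]) z₁
      (fun h => hxy (hinj (h.trans (map_one ρ).symm))) (orderOf (z₁ : R))
      (Subtype.ext (by rw [SubmonoidClass.coe_pow, pow_orderOf_eq_one]; rfl)) (hk _)
    exact orbit_absurd hp hp2 hr hpK hR Z le_rfl hcom σ hσ hfpf hσZ hτZ hfree hirr ρ s hs hsfix
      hsρ μ v hv hμ x₁ y₁ hμ1

end H28.SG
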