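import Cfsg.Agent.H28.ShultGross.Eigen
import Cfsg.Agent.H29.EigenProjections

/-!
Hall–Higman lemma: an automorphism of order `P` acting freely on `Q/M`, where `M` is the radical of a
representation of `Q` on which `M` acts by scalars, without fixed points in the representation.
-/

set_option autoImplicit false
set_option linter.style.haveILetI false

namespace H28.SG

open Module
open Cfsg.Agent.H29 (subalgebra_eq_top_of_irreducible sq_finrank_le_centralizer)
open scoped commutatorElement

universe u v w

variable {Q : Type u} [Group Q] [Finite Q] {K : Type v} [Field K] [IsAlgClosed K]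
variable {W : Type w} [AddCommGroup W] [Module K W] [FiniteDimensional K W]

theorem eigen_bound {P : ℕ} (hP : 1 < P) {ζ : K} (hζ : IsPrimitiveRoot ζ P) (hPK : (P : K) ≠ 0)
    (M : Subgroup Q) [M.Normal] (hMtop : M ≠ ⊤) (θ : MulAut Q) (hθP : θ ^ P = 1)
    (hθM : ∀ c ∈ M, θ c ∈ M)
    (hfree : ∀ k, 0 < k → k < P → ∀ x, x⁻¹ * (θ ^ k) x ∈ M → x ∈ M)
    [Nontrivial W] (ρ : Q →* Module.End K W)
    (hscal : ∀ c ∈ M, ∃ k : K, ρ c = k • (1 : Module.End K W))
    (hθρ : ∀ c ∈ M, ρ (θ c) = ρ c) (hcom : ∀ x y : Q, ⁅x, y⁆ ∈ M)
    (hnd : ∀ w : Q, (∀ y : Q, ρ ⁅y, w⁆ = 1) → w ∈ M)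
    (u : Module.End K W) (hu : u ^ P = 1) (hfix : ∀ v, u v = v → v = 0)
    (hcomm : ∀ a, u * ρ a = ρ (θ a) * u) :
    ∃ d o : ℕ, d ^ 2 = M.index ∧ d ^ 2 + P = P * o + 1 ∧ d ^ 2 ≤ (P - 1) * o := by
  classical
  -- a minimal invariant subspace
  obtain ⟨S, ⟨hS0, hSinv⟩, hSmin⟩ := wellFounded_lt.has_min
    {U : Submodule K W | U ≠ ⊥ ∧ ∀ a : Q, ∀ v ∈ U, ρ a v ∈ U}
    ⟨⊤, top_ne_bot, fun _ _ _ => trivial⟩
  haveI : Nontrivial S := Submodule.nontrivial_iff_ne_bot.mpr hS0
  let ρS : Q →* Module.End K S :=
    { toFun := fun a => (ρ a).restrict (hSinv a)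
      map_one' := by
        refine LinearMap.ext fun v => Subtype.ext ?_
        show ρ 1 (v : W) = _
        rw [map_one]; rfl
      map_mul' := fun a b => by
        refine LinearMap.ext fun v => Subtype.ext ?_
        show ρ (a * b) (v : W) = _
        rw [map_mul]; rfl }
  have hirr : ∀ U : Submodule K S, (∀ a, ∀ v ∈ U, ρS a v ∈ U) → U = ⊥ ∨ U = ⊤ := by
    intro U hU
    by_cases h0 : U = ⊥
    · exact Or.inl h0
    right
    by_contra htop
    have hlt : U.map S.subtype < S := by
      refine lt_of_le_of_ne (Submodule.map_subtype_le S U) fun h => htop ?_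
      apply Submodule.map_injective_of_injective (f := S.subtype) Subtype.val_injective
      rw [h, Submodule.map_subtype_top]
    refine hSmin (U.map S.subtype) ⟨?_, ?_⟩ hlt
    · intro h
      exact h0 (Submodule.map_injective_of_injective (f := S.subtype) Subtype.val_injective
        (by rw [h, Submodule.map_bot]))
    · intro a v hv
      obtain ⟨w, hw, rfl⟩ := Submodule.mem_map.mp hv
      exact Submodule.mem_map.mpr ⟨ρS a w, hU a w hw, rfl⟩
  have hscalS : ∀ c ∈ M, ∃ k : K, ρS c = k • (1 : Module.End K S) := by
    intro c hc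
    obtain ⟨k, hk⟩ := hscal c hc
    exact ⟨k, LinearMap.ext fun v => Subtype.ext (LinearMap.congr_fun hk (v : W))⟩
  have hθS : ∀ c ∈ M, ρS (θ c) = ρS c := fun c hc =>
    LinearMap.ext fun v => Subtype.ext (LinearMap.congr_fun (hθρ c hc) (v : W))
  have hMone : ∀ c ∈ M, ρS c = 1 → ρ c = 1 := by
    intro c hc h
    obtain ⟨k, hk⟩ := hscal c hc
    obtain ⟨v, hv⟩ := exists_ne (0 : S)
    have h1 : ρ c (v : W) = (v : W) := congrArg Subtype.val (LinearMap.congr_fun h v)
    rw [hk, LinearMap.smul_apply, Module.End.one_apply] at h1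
    have hk1 : k = 1 :=
      smul_left_injective K (fun h0 => hv (Subtype.ext h0)) (h1.trans (one_smul K (v : W)).symm)
    rw [hk, hk1, one_smul]
  have hunit : ∀ a, IsUnit (ρS a) := fun a => IsUnit.map ρS (Group.isUnit a)
  -- the coset representatives
  let T := Q ⧸ M
  haveI : Fintype T := Fintype.ofFinite T
  let out : T → Q := fun t => Quotient.out t
  have hout : ∀ t : T, QuotientGroup.mk (out t) = t := fun t => Quotient.out_eq t
  let b : T → Module.End K S := fun t => ρS (out t)
  have hdecomp : ∀ a : Q, ∃ k : K, ρS a = k • b (QuotientGroup.mk a) := by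
    intro a
    obtain ⟨k, hk⟩ := hscalS _ (QuotientGroup.eq.mp (hout (QuotientGroup.mk a)))
    refine ⟨k, ?_⟩
    have : a = out (QuotientGroup.mk a) * ((out (QuotientGroup.mk a))⁻¹ * a) := by group
    conv_lhs => rw [this]
    rw [map_mul, hk, mul_smul_comm, mul_one]
  -- linear independence
  choose χ hχ using fun (y : Q) (t : T) => hscalS _ (hcom y (out t))
  have hconj : ∀ y t, ρS y * b t = χ y t • (b t * ρS y) := by
    intro y t
    show ρS y * ρS (out t) = _
    rw [← map_mul, show y * out t = ⁅y, out t⁆ * (out t * y) by rw [commutatorElement_def]; group,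
      map_mul, hχ, smul_mul_assoc, one_mul, map_mul]
  have hindep : ∀ s : Finset T, ∀ c : T → K, ∑ t ∈ s, c t • b t = 0 → ∀ t ∈ s, c t = 0 := by
    intro s
    induction s using Finset.induction with
    | empty => intro c _ t ht; exact absurd ht (Finset.notMem_empty t)
    | @insert t₁ s ht₁ ih =>
      intro c hc
      have hs : ∀ t ∈ s, c t = 0 := by
        intro t ht
        by_contra hct
        have hall : ∀ y, χ y t = χ y t₁ := by
          intro y
          have h1 : ∑ x ∈ insert t₁ s, (χ y x * c x) • b x = 0 := by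
            have h2 : (∑ x ∈ insert t₁ s, (χ y x * c x) • b x) * ρS y =
                ρS y * ∑ x ∈ insert t₁ s, c x • b x := by
              rw [Finset.sum_mul, Finset.mul_sum]
              refine Finset.sum_congr rfl fun x _ => ?_
              rw [mul_smul_comm, hconj, smul_smul, smul_mul_assoc, mul_comm (χ y x)]
            rw [hc, mul_zero] at h2
            exact (hunit y).mul_left_eq_zero.mp h2
          have h3 : ∑ x ∈ insert t₁ s, ((χ y x - χ y t₁) * c x) • b x = 0 := by
            have e0 : ∀ x, ((χ y x - χ y t₁) * c x) • b x =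
                (χ y x * c x) • b x - χ y t₁ • (c x • b x) := fun x => by
              rw [smul_smul, sub_mul]
              exact sub_smul (χ y x * c x) (χ y t₁ * c x) (b x)
            rw [Finset.sum_congr rfl (fun x _ => e0 x), Finset.sum_sub_distrib, h1,
              ← Finset.smul_sum, hc, smul_zero, sub_zero]
          rw [Finset.sum_insert ht₁, sub_self, zero_mul, zero_smul, zero_add] at h3
          rcases mul_eq_zero.mp (ih _ h3 t ht) with h | h
          · exact sub_eq_zero.mp h
          · exact absurd h hct
        apply ht₁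
        have hmem : (out t)⁻¹ * out t₁ ∈ M := by
          refine hnd _ fun y => hMone _ (hcom _ _) ?_
          set w := (out t)⁻¹ * out t₁ with hw
          have hb : b t₁ = b t * ρS w := by
            show ρS (out t₁) = ρS (out t) * ρS w
            rw [← map_mul, hw, mul_inv_cancel_left]
          have e1 : ρS (y * w) = ρS (w * y) := by
            rw [map_mul ρS y w, map_mul ρS w y]
            have hχ0 : χ y t ≠ 0 := fun h0 => ((hunit y).mul (hunit (out t))).ne_zero
              (by
                show ρS y * b t = 0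
                rw [hconj, h0, zero_smul])
            apply (hunit (out t)).mul_left_cancel
            apply smul_right_injective (Module.End K S) hχ0
            show χ y t • (b t * (ρS y * ρS w)) = χ y t • (b t * (ρS w * ρS y))
            conv_rhs => rw [hall, ← mul_assoc, ← hb, ← hconj]
            rw [← mul_assoc (b t), ← smul_mul_assoc, ← hconj, mul_assoc, ← hb]
          rw [commutatorElement_def, show y * w * y⁻¹ * w⁻¹ = (y * w) * (w * y)⁻¹ by group,
            map_mul, e1, ← map_mul, mul_inv_cancel, map_one]
        have : t = t₁ := by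
          rw [← hout t, ← hout t₁]; exact QuotientGroup.eq.mpr hmem
        exact this ▸ ht
      intro t ht
      rcases Finset.mem_insert.mp ht with rfl | ht'
      · rw [Finset.sum_insert ht₁, Finset.sum_eq_zero (fun x hx => by rw [hs x hx, zero_smul]),
          add_zero] at hc
        exact (smul_eq_zero.mp hc).resolve_right (hunit (out t)).ne_zero
      · exact hs t ht'
  have hli : LinearIndependent K b := by
    rw [Fintype.linearIndependent_iff]
    exact fun g hg t => hindep Finset.univ g hg t (Finset.mem_univ t)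
  -- spanning
  have hsmall : ∀ a, ρS a ∈ Submodule.span K (Set.range b) := fun a => by
    obtain ⟨k, hk⟩ := hdecomp a
    rw [hk]; exact Submodule.smul_mem _ _ (Submodule.subset_span ⟨_, rfl⟩)
  have hspan : ⊤ ≤ Submodule.span K (Set.range b) := by
    have hA : Algebra.adjoin K (Set.range ρS) = ⊤ := by
      apply subalgebra_eq_top_of_irreducible
      intro U hU
      exact hirr U fun a v hv => hU _ (Algebra.subset_adjoin ⟨a, rfl⟩) v hv
    have hB : Subalgebra.toSubmodule (Algebra.adjoin K (Set.range ρS)) =
        Submodule.span K (Set.range ρS) := by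
      rw [Algebra.adjoin_eq_span, ← MonoidHom.coe_mrange, Submonoid.closure_eq]
    rw [hA, Algebra.top_toSubmodule] at hB
    rw [hB, Submodule.span_le]
    rintro _ ⟨a, rfl⟩
    exact hsmall a
  let B : Basis T K (Module.End K S) := Basis.mk hli hspan
  have hB : ∀ t, B t = b t := fun t => Basis.mk_apply hli hspan t
  have hN : Nat.card T = Module.finrank K S ^ 2 := by
    rw [Nat.card_eq_fintype_card, ← Module.finrank_eq_card_basis B, Module.finrank_linearMap, sq]
  -- the induced permutation
  let σ : Equiv.Perm T := (quotAut θ M hθM).toEquiv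
  have hσmk : ∀ a : Q, σ (QuotientGroup.mk a) = QuotientGroup.mk (θ a) := fun a => rfl
  -- the algebra automorphism
  let L : Module.End K S →ₗ[K] Module.End K S := B.constr K fun t => ρS (θ (out t))
  have hL : ∀ a, L (ρS a) = ρS (θ a) := by
    intro a
    have hm : (out (QuotientGroup.mk a))⁻¹ * a ∈ M :=
      QuotientGroup.eq.mp (hout (QuotientGroup.mk a))
    obtain ⟨k, hk⟩ := hscalS _ hm
    have ha : a = out (QuotientGroup.mk a) * ((out (QuotientGroup.mk a))⁻¹ * a) := by group
    conv_rhs => rw [ha, map_mul θ, map_mul ρS, hθS _ hm, hk]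
    conv_lhs => rw [ha, map_mul, hk]
    rw [mul_smul_comm, mul_smul_comm, mul_one, mul_one, map_smul]
    congr 1
    show L (b (QuotientGroup.mk a)) = _
    rw [← hB, Basis.constr_basis]
  have hLmul : ∀ f g, L (f * g) = L f * L g := by
    intro f g
    have hf : f ∈ Submodule.span K (Set.range b) := hspan trivial
    have hg : g ∈ Submodule.span K (Set.range b) := hspan trivial
    induction hf using Submodule.span_induction with
    | zero => simp
    | add x y _ _ hx hy => rw [add_mul, map_add, map_add, add_mul, hx, hy]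
    | smul k x _ hx => rw [smul_mul_assoc, map_smul, map_smul, smul_mul_assoc, hx]
    | mem x hx =>
      obtain ⟨t, rfl⟩ := hx
      induction hg using Submodule.span_induction with
      | zero => simp
      | add x y _ _ hx hy => rw [mul_add, map_add, map_add, mul_add, hx, hy]
      | smul k x _ hx => rw [mul_smul_comm, map_smul, map_smul, mul_smul_comm, hx]
      | mem x hx =>
        obtain ⟨t', rfl⟩ := hx
        show L (ρS (out t) * ρS (out t')) = L (ρS _) * L (ρS _)
        rw [← map_mul ρS, hL, hL, hL, map_mul θ, map_mul ρS]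
  have hL1 : L 1 = 1 := by
    rw [← map_one ρS, hL, map_one θ]
  let Λ : Module.End K S →ₐ[K] Module.End K S := AlgHom.ofLinearMap L hL1 hLmul
  have hΛsurj : Function.Surjective L := by
    rw [← LinearMap.range_eq_top, eq_top_iff]
    refine hspan.trans (Submodule.span_le.mpr ?_)
    rintro _ ⟨t, rfl⟩
    refine ⟨ρS (θ.symm (out t)), ?_⟩
    rw [hL, MulEquiv.apply_symm_apply]
  have hΛbij : Function.Bijective Λ :=
    ⟨(LinearMap.injective_iff_surjective (f := L)).mpr hΛsurj, hΛsurj⟩
  obtain ⟨s, hs⟩ := LinearEquiv.conjAlgEquiv_surjective K S S (AlgEquiv.ofBijective Λ hΛbij)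
  have hsL : ∀ f v, s (f v) = L f (s v) := by
    intro f v
    have h1 := congrArg (fun e : Module.End K S ≃ₐ[K] Module.End K S => e f (s v)) hs
    simp only [LinearEquiv.conjAlgEquiv_apply, LinearMap.coe_comp, LinearEquiv.coe_coe,
      Function.comp_apply, LinearEquiv.symm_apply_apply] at h1
    exact h1
  -- correct the scalar
  let U : Submodule K (S →ₗ[K] W) :=
    { carrier := {φ | ∀ a v, ρ a (φ v) = φ (ρS a v)}
      add_mem' := fun {φ ψ} hφ hψ a v => by
        simp only [LinearMap.add_apply, map_add, hφ a v, hψ a v]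
      zero_mem' := fun a v => by simp
      smul_mem' := fun k φ hφ a v => by
        simp only [LinearMap.smul_apply, map_smul, hφ a v] }
  let Tφ : U →ₗ[K] U :=
    { toFun := fun φ => ⟨u ∘ₗ (φ : S →ₗ[K] W) ∘ₗ s.symm.toLinearMap, by
        intro a v
        obtain ⟨a', rfl⟩ := θ.surjective a
        show ρ (θ a') (u ((φ : S →ₗ[K] W) (s.symm v))) = u ((φ : S →ₗ[K] W) (s.symm (ρS (θ a') v)))
        rw [← Module.End.mul_apply, ← hcomm, Module.End.mul_apply, φ.2 a']
        congr 2
        apply s.injective
        rw [hsL, LinearEquiv.apply_symm_apply, LinearEquiv.apply_symm_apply, hL]⟩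
      map_add' := fun φ ψ => by
        apply Subtype.ext
        refine LinearMap.ext fun v => ?_
        simp
      map_smul' := fun k φ => by
        apply Subtype.ext
        refine LinearMap.ext fun v => ?_
        simp }
  haveI : Nontrivial U := by
    refine Submodule.nontrivial_iff_ne_bot.mpr ?_
    rw [Submodule.ne_bot_iff]
    refine ⟨S.subtype, fun a v => rfl, fun h => ?_⟩
    obtain ⟨v, hv⟩ := exists_ne (0 : S)
    exact hv (Subtype.ext (congrArg (fun f : S →ₗ[K] W => f v) h))
  obtain ⟨lam, hlam⟩ := Module.End.exists_eigenvalue Tφ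
  obtain ⟨φ, hφmem, hφ0⟩ := hlam.exists_hasEigenvector
  have hφinj : Function.Injective (φ : S →ₗ[K] W) := by
    rw [← LinearMap.ker_eq_bot]
    refine (hirr _ fun a v hv => ?_).resolve_right fun h => hφ0 (Subtype.ext ?_)
    · rw [LinearMap.mem_ker] at hv ⊢
      rw [← φ.2 a v, hv, map_zero]
    · exact LinearMap.ker_eq_top.mp h
  let u' : Module.End K S := lam • s.toLinearMap
  have hu' : ∀ v, u ((φ : S →ₗ[K] W) v) = (φ : S →ₗ[K] W) (u' v) := by
    intro v
    have h1 := congrArg (fun ψ : U => (ψ : S →ₗ[K] W) (s v))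
      (Module.End.mem_eigenspace_iff.mp hφmem)
    simpa [Tφ, u'] using h1
  have hu'pow : ∀ k : ℕ, ∀ v, (u ^ k) ((φ : S →ₗ[K] W) v) = (φ : S →ₗ[K] W) ((u' ^ k) v) := by
    intro k
    induction k with
    | zero => intro v; rfl
    | succ k ih =>
      intro v
      rw [pow_succ', pow_succ', Module.End.mul_apply, Module.End.mul_apply, ih, hu']
  have hu'r : u' ^ P = 1 := by
    refine LinearMap.ext fun v => hφinj ?_
    rw [← hu'pow, hu]; rfl
  have hu'fix : ∀ v, u' v = v → v = 0 := by
    intro v hv
    apply hφinj
    rw [map_zero]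
    exact hfix _ (by rw [hu', hv])
  have hle := sq_finrank_le_centralizer u' hζ hPK hu'r hu'fix
  -- the orbit bound for the centraliser
  have hcen : ∀ f ∈ Subalgebra.centralizer K ({u'} : Set (Module.End K S)), L f = f := by
    intro f hf
    have hlam0 : lam ≠ 0 := by
      intro h
      obtain ⟨v, hv⟩ := exists_ne (0 : S)
      apply hv
      have hz : u' = 0 := by simp [u', h]
      have := congrArg (fun g : Module.End K S => g v) hu'r
      simp only [hz, zero_pow (by omega : P ≠ 0), LinearMap.zero_apply, Module.End.one_apply] at this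
      exact this.symm
    refine LinearMap.ext fun v => ?_
    obtain ⟨w, rfl⟩ := s.surjective v
    rw [← hsL]
    have h1 := congrArg (fun g : Module.End K S => g w)
      ((Subalgebra.mem_centralizer_iff K).mp hf u' (Set.mem_singleton _))
    simp only [Module.End.mul_apply, u', LinearMap.smul_apply, LinearEquiv.coe_coe, map_smul] at h1
    exact smul_right_injective S hlam0 h1
  let C : Submodule K (Module.End K S) :=
    Subalgebra.toSubmodule (Subalgebra.centralizer K ({u'} : Set (Module.End K S)))
  let Ω := MulAction.orbitRel.Quotient (Subgroup.zpowers σ) T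
  haveI : Fintype Ω := Fintype.ofFinite Ω
  let Ψ : C →ₗ[K] (Ω → K) :=
    { toFun := fun f o => B.repr (f : Module.End K S) (Quotient.out o)
      map_add' := fun f g => by funext o; simp
      map_smul' := fun k f => by funext o; simp }
  have hΨ : Function.Injective Ψ := by
    suffices H : ∀ f, Ψ f = 0 → f = 0 by
      intro f g hfg
      refine sub_eq_zero.mp (H (f - g) ?_)
      funext o
      have h := congrFun hfg o
      simp only [Ψ, LinearMap.coe_mk, AddHom.coe_mk] at h ⊢
      simp [h]
    intro f hf
    have hrel : ∀ t, B.repr (f : Module.End K S) t = 0 ↔ B.repr (f : Module.End K S) (σ t) = 0 := by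
      intro t
      obtain ⟨k, hk, hk0⟩ : ∃ k : K, L (B t) = k • B (σ t) ∧ k ≠ 0 := by
        obtain ⟨k, hk⟩ := hdecomp (θ (out t))
        have hσt : QuotientGroup.mk (θ (out t)) = σ t := by rw [← hσmk, hout]
        rw [hσt] at hk
        refine ⟨k, by rw [hB, hB, hL]; exact hk, fun h => ?_⟩
        rw [h, zero_smul] at hk
        exact (hunit _).ne_zero hk
      have h1 : ∀ g : Module.End K S, B.repr (L g) (σ t) = k * B.repr g t := by
        intro g
        have : B.coord (σ t) ∘ₗ L = k • B.coord t := by
          refine B.ext fun t' => ?_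
          obtain ⟨k', hk'⟩ := hdecomp (θ (out t'))
          have hσt : QuotientGroup.mk (θ (out t')) = σ t' := by rw [← hσmk, hout]
          simp only [LinearMap.comp_apply, LinearMap.smul_apply, Basis.coord_apply]
          by_cases h : t' = t
          · subst h; rw [hk]; simp
          · rw [hB t', hL, hk', hσt, ← hB, ← hB t']
            simp [h, (σ.injective.ne h)]
        exact congrArg (fun l : Module.End K S →ₗ[K] K => l g) this
      have h2 := h1 (f : Module.End K S)
      rw [hcen _ f.2] at h2
      rw [h2, mul_eq_zero]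
      exact ⟨Or.inr, fun h => h.resolve_left hk0⟩
    apply Subtype.ext
    show (f : Module.End K S) = 0
    apply B.repr.injective
    rw [map_zero]
    ext t
    have hrep : B.repr (f : Module.End K S) (Quotient.out (Quotient.mk'' t : Ω)) = 0 :=
      congrFun hf _
    obtain ⟨g, hg⟩ := MulAction.orbitRel_apply.mp
      (Quotient.exact' (Quotient.out_eq' (Quotient.mk'' t : Ω)))
    obtain ⟨j, hj⟩ := Subgroup.mem_zpowers_iff.mp g.2
    have key : ∀ j : ℤ, ∀ t, B.repr (f : Module.End K S) t = 0 ↔
        B.repr (f : Module.End K S) ((σ ^ j) t) = 0 := by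
      intro j
      induction j using Int.induction_on with
      | zero => intro t; simp
      | succ n ih => intro t; rw [add_comm, zpow_add, zpow_one, Equiv.Perm.mul_apply, ih t, hrel]
      | pred n ih =>
        intro t
        rw [sub_eq_neg_add, zpow_add, zpow_neg_one, Equiv.Perm.mul_apply, ih t,
          hrel (σ⁻¹ _), ← Equiv.Perm.mul_apply σ σ⁻¹, mul_inv_cancel, Equiv.Perm.one_apply]
    rw [Finsupp.zero_apply]
    rw [key j t, hj]
    rw [show (g : Equiv.Perm T) t = g • t from rfl, show g • t = _ from hg]
    exact hrep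
  have hCle : Module.finrank K C ≤ Nat.card Ω := by
    refine (LinearMap.finrank_le_finrank_of_injective hΨ).trans ?_
    rw [Module.finrank_fintype_fun_eq_card, Nat.card_eq_fintype_card]
  -- orbit count
  have hσit : ∀ k : ℕ, ∀ a : Q, (σ ^ k) (QuotientGroup.mk a) = QuotientGroup.mk ((θ ^ k) a) := by
    intro k
    induction k with
    | zero => intro a; rfl
    | succ k ih =>
      intro a
      rw [pow_succ', pow_succ', Equiv.Perm.mul_apply, ih, hσmk, MulAut.mul_apply]
  have hσr : σ ^ P = 1 := by
    ext t
    rw [← hout t, hσit, hθP]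
    rfl
  have hσ1 : σ (1 : T) = 1 := map_one (quotAut θ M hθM)
  have hσfree : ∀ k, 0 < k → k < P → ∀ t : T, (σ ^ k) t = t → t = (1 : T) := by
    intro k hk hkP t ht
    rw [← hout t] at ht ⊢
    rw [hσit] at ht
    exact (QuotientGroup.eq_one_iff _).mpr (hfree k hk hkP _ (QuotientGroup.eq.mp ht.symm))
  have hTne : ∃ t : T, t ≠ 1 := by
    by_contra hcon
    push Not at hcon
    exact hMtop ((Subgroup.eq_top_iff' M).mpr fun x => (QuotientGroup.eq_one_iff x).mp (hcon _))
  have hcount := card_orbits_free σ (by omega : 0 < P) hσr 1 hσ1 hσfree hTne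
  rw [hN] at hcount
  exact ⟨_, _, hN.symm.trans (Subgroup.index_eq_card M).symm, hcount,
    hle.trans (Nat.mul_le_mul_left _ hCle)⟩

end H28.SG
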